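import Cfsg.Agent.Lib.KnownSimple.HeP.CertA

/-!
# Relators following from a coset table
-/

set_option autoImplicit false

namespace Cfsg.Agent.Lib.KnownSimple.HeP

open Cfsg Cfsg.Spor Cfsg.Agent.Lib.Compute Cfsg.Agent.Lib.KnownSimple.PE Cfsg.Agent.Lib.KnownSimple.Leech
open Cfsg.Agent.Lib.KnownSimple Cfsg.Agent.Lib.KnownSimple.AutRigid Cfsg.Agent.Lib.KnownSimple.Pres

/-- Further relators. -/
def relR : List (List ℕ) := [[5, 0, 5, 0, 1, 0, 5, 0, 5, 0, 1, 0, 5, 0, 1]]
theorem hR : ∀ r ∈ relR, (r.map S.L.v).prod = 1 := by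
  intro r hr
  simp only [relR, List.mem_cons, List.not_mem_nil, or_false] at hr
  subst hr
  · exact S.word_triv CA (K := KA) (n := 15120) [4, 6, 5, 0, 1] (by decide +kernel) (fun _ => rfl) wordsA (fun _ => rfl) (by decide +kernel) factsA (by norm_num) (by decide +kernel) entriesA _ (by decide +kernel) (by decide +kernel)

end Cfsg.Agent.Lib.KnownSimple.HeP
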