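import Cfsg.Agent.Lib.KnownSimple.HeP.Def2

/-!
# A coset enumeration: the facts
-/

set_option autoImplicit false

namespace Cfsg.Agent.Lib.KnownSimple.HeP

open Cfsg Cfsg.Spor Cfsg.Agent.Lib.Compute Cfsg.Agent.Lib.KnownSimple.PE Cfsg.Agent.Lib.KnownSimple.Leech
open Cfsg.Agent.Lib.KnownSimple Cfsg.Agent.Lib.KnownSimple.AutRigid Cfsg.Agent.Lib.KnownSimple.Pres

set_option maxHeartbeats 0 in
set_option maxRecDepth 100000 in
theorem fc2_40 : chunk (padB K2 (Cert.factOK C2)) 2584 40 = true := by decide +kernel
set_option maxHeartbeats 0 in
set_option maxRecDepth 100000 in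
theorem fc2_41 : chunk (padB K2 (Cert.factOK C2)) 2584 41 = true := by decide +kernel
set_option maxHeartbeats 0 in
set_option maxRecDepth 100000 in
theorem fc2_42 : chunk (padB K2 (Cert.factOK C2)) 2584 42 = true := by decide +kernel
set_option maxHeartbeats 0 in
set_option maxRecDepth 100000 in
theorem fc2_43 : chunk (padB K2 (Cert.factOK C2)) 2584 43 = true := by decide +kernel
set_option maxHeartbeats 0 in
set_option maxRecDepth 100000 in
theorem fc2_44 : chunk (padB K2 (Cert.factOK C2)) 2584 44 = true := by decide +kernel
set_option maxHeartbeats 0 in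
set_option maxRecDepth 100000 in
theorem fc2_45 : chunk (padB K2 (Cert.factOK C2)) 2584 45 = true := by decide +kernel
set_option maxHeartbeats 0 in
set_option maxRecDepth 100000 in
theorem fc2_46 : chunk (padB K2 (Cert.factOK C2)) 2584 46 = true := by decide +kernel
set_option maxHeartbeats 0 in
set_option maxRecDepth 100000 in
theorem fc2_47 : chunk (padB K2 (Cert.factOK C2)) 2584 47 = true := by decide +kernel
set_option maxHeartbeats 0 in
set_option maxRecDepth 100000 in
theorem fc2_48 : chunk (padB K2 (Cert.factOK C2)) 2584 48 = true := by decide +kernel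
set_option maxHeartbeats 0 in
set_option maxRecDepth 100000 in
theorem fc2_49 : chunk (padB K2 (Cert.factOK C2)) 2584 49 = true := by decide +kernel
set_option maxHeartbeats 0 in
set_option maxRecDepth 100000 in
theorem fc2_50 : chunk (padB K2 (Cert.factOK C2)) 2584 50 = true := by decide +kernel
set_option maxHeartbeats 0 in
set_option maxRecDepth 100000 in
theorem fc2_51 : chunk (padB K2 (Cert.factOK C2)) 2584 51 = true := by decide +kernel
set_option maxHeartbeats 0 in
set_option maxRecDepth 100000 in
theorem fc2_52 : chunk (padB K2 (Cert.factOK C2)) 2584 52 = true := by decide +kernel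
set_option maxHeartbeats 0 in
set_option maxRecDepth 100000 in
theorem fc2_53 : chunk (padB K2 (Cert.factOK C2)) 2584 53 = true := by decide +kernel
set_option maxHeartbeats 0 in
set_option maxRecDepth 100000 in
theorem fc2_54 : chunk (padB K2 (Cert.factOK C2)) 2584 54 = true := by decide +kernel
set_option maxHeartbeats 0 in
set_option maxRecDepth 100000 in
theorem fc2_55 : chunk (padB K2 (Cert.factOK C2)) 2584 55 = true := by decide +kernel
set_option maxHeartbeats 0 in
set_option maxRecDepth 100000 in
theorem fc2_56 : chunk (padB K2 (Cert.factOK C2)) 2584 56 = true := by decide +kernel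
set_option maxHeartbeats 0 in
set_option maxRecDepth 100000 in
theorem fc2_57 : chunk (padB K2 (Cert.factOK C2)) 2584 57 = true := by decide +kernel
set_option maxHeartbeats 0 in
set_option maxRecDepth 100000 in
theorem fc2_58 : chunk (padB K2 (Cert.factOK C2)) 2584 58 = true := by decide +kernel
set_option maxHeartbeats 0 in
set_option maxRecDepth 100000 in
theorem fc2_59 : chunk (padB K2 (Cert.factOK C2)) 2584 59 = true := by decide +kernel
set_option maxHeartbeats 0 in
set_option maxRecDepth 100000 in
theorem fc2_60 : chunk (padB K2 (Cert.factOK C2)) 2584 60 = true := by decide +kernel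
set_option maxHeartbeats 0 in
set_option maxRecDepth 100000 in
theorem fc2_61 : chunk (padB K2 (Cert.factOK C2)) 2584 61 = true := by decide +kernel
set_option maxHeartbeats 0 in
set_option maxRecDepth 100000 in
theorem fc2_62 : chunk (padB K2 (Cert.factOK C2)) 2584 62 = true := by decide +kernel
set_option maxHeartbeats 0 in
set_option maxRecDepth 100000 in
theorem fc2_63 : chunk (padB K2 (Cert.factOK C2)) 2584 63 = true := by decide +kernel
set_option maxHeartbeats 0 in
set_option maxRecDepth 100000 in
theorem fc2_64 : chunk (padB K2 (Cert.factOK C2)) 2584 64 = true := by decide +kernel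
set_option maxHeartbeats 0 in
set_option maxRecDepth 100000 in
theorem fc2_65 : chunk (padB K2 (Cert.factOK C2)) 2584 65 = true := by decide +kernel
set_option maxHeartbeats 0 in
set_option maxRecDepth 100000 in
theorem fc2_66 : chunk (padB K2 (Cert.factOK C2)) 2584 66 = true := by decide +kernel
set_option maxHeartbeats 0 in
set_option maxRecDepth 100000 in
theorem fc2_67 : chunk (padB K2 (Cert.factOK C2)) 2584 67 = true := by decide +kernel
set_option maxHeartbeats 0 in
set_option maxRecDepth 100000 in
theorem fc2_68 : chunk (padB K2 (Cert.factOK C2)) 2584 68 = true := by decide +kernel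
set_option maxHeartbeats 0 in
set_option maxRecDepth 100000 in
theorem fc2_69 : chunk (padB K2 (Cert.factOK C2)) 2584 69 = true := by decide +kernel
set_option maxHeartbeats 0 in
set_option maxRecDepth 100000 in
theorem fc2_70 : chunk (padB K2 (Cert.factOK C2)) 2584 70 = true := by decide +kernel
set_option maxHeartbeats 0 in
set_option maxRecDepth 100000 in
theorem fc2_71 : chunk (padB K2 (Cert.factOK C2)) 2584 71 = true := by decide +kernel
set_option maxHeartbeats 0 in
set_option maxRecDepth 100000 in
theorem fc2_72 : chunk (padB K2 (Cert.factOK C2)) 2584 72 = true := by decide +kernel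
set_option maxHeartbeats 0 in
set_option maxRecDepth 100000 in
theorem fc2_73 : chunk (padB K2 (Cert.factOK C2)) 2584 73 = true := by decide +kernel
set_option maxHeartbeats 0 in
set_option maxRecDepth 100000 in
theorem fc2_74 : chunk (padB K2 (Cert.factOK C2)) 2584 74 = true := by decide +kernel
set_option maxHeartbeats 0 in
set_option maxRecDepth 100000 in
theorem fc2_75 : chunk (padB K2 (Cert.factOK C2)) 2584 75 = true := by decide +kernel
set_option maxHeartbeats 0 in
set_option maxRecDepth 100000 in
theorem fc2_76 : chunk (padB K2 (Cert.factOK C2)) 2584 76 = true := by decide +kernel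
set_option maxHeartbeats 0 in
set_option maxRecDepth 100000 in
theorem fc2_77 : chunk (padB K2 (Cert.factOK C2)) 2584 77 = true := by decide +kernel
set_option maxHeartbeats 0 in
set_option maxRecDepth 100000 in
theorem fc2_78 : chunk (padB K2 (Cert.factOK C2)) 2584 78 = true := by decide +kernel
set_option maxHeartbeats 0 in
set_option maxRecDepth 100000 in
theorem fc2_79 : chunk (padB K2 (Cert.factOK C2)) 2584 79 = true := by decide +kernel

end Cfsg.Agent.Lib.KnownSimple.HeP
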