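import Cfsg.Agent.Lib.KnownSimple.HeP.Def2

/-!
# A coset enumeration: the facts
-/

set_option autoImplicit false

namespace Cfsg.Agent.Lib.KnownSimple.HeP

open Cfsg Cfsg.Spor Cfsg.Agent.Lib.Compute Cfsg.Agent.Lib.KnownSimple.PE Cfsg.Agent.Lib.KnownSimple.Leech
open Cfsg.Agent.Lib.KnownSimple Cfsg.Agent.Lib.KnownSimple.AutRigid Cfsg.Agent.Lib.KnownSimple.Pres

set_option maxHeartbeats 0 in
set_option maxRecDepth 100000 in
theorem fc2_80 : chunk (padB K2 (Cert.factOK C2)) 2584 80 = true := by decide +kernel
set_option maxHeartbeats 0 in
set_option maxRecDepth 100000 in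
theorem fc2_81 : chunk (padB K2 (Cert.factOK C2)) 2584 81 = true := by decide +kernel
set_option maxHeartbeats 0 in
set_option maxRecDepth 100000 in
theorem fc2_82 : chunk (padB K2 (Cert.factOK C2)) 2584 82 = true := by decide +kernel
set_option maxHeartbeats 0 in
set_option maxRecDepth 100000 in
theorem fc2_83 : chunk (padB K2 (Cert.factOK C2)) 2584 83 = true := by decide +kernel
set_option maxHeartbeats 0 in
set_option maxRecDepth 100000 in
theorem fc2_84 : chunk (padB K2 (Cert.factOK C2)) 2584 84 = true := by decide +kernel
set_option maxHeartbeats 0 in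
set_option maxRecDepth 100000 in
theorem fc2_85 : chunk (padB K2 (Cert.factOK C2)) 2584 85 = true := by decide +kernel
set_option maxHeartbeats 0 in
set_option maxRecDepth 100000 in
theorem fc2_86 : chunk (padB K2 (Cert.factOK C2)) 2584 86 = true := by decide +kernel
set_option maxHeartbeats 0 in
set_option maxRecDepth 100000 in
theorem fc2_87 : chunk (padB K2 (Cert.factOK C2)) 2584 87 = true := by decide +kernel
set_option maxHeartbeats 0 in
set_option maxRecDepth 100000 in
theorem fc2_88 : chunk (padB K2 (Cert.factOK C2)) 2584 88 = true := by decide +kernel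
set_option maxHeartbeats 0 in
set_option maxRecDepth 100000 in
theorem fc2_89 : chunk (padB K2 (Cert.factOK C2)) 2584 89 = true := by decide +kernel
set_option maxHeartbeats 0 in
set_option maxRecDepth 100000 in
theorem fc2_90 : chunk (padB K2 (Cert.factOK C2)) 2584 90 = true := by decide +kernel
set_option maxHeartbeats 0 in
set_option maxRecDepth 100000 in
theorem fc2_91 : chunk (padB K2 (Cert.factOK C2)) 2584 91 = true := by decide +kernel
set_option maxHeartbeats 0 in
set_option maxRecDepth 100000 in
theorem fc2_92 : chunk (padB K2 (Cert.factOK C2)) 2584 92 = true := by decide +kernel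
set_option maxHeartbeats 0 in
set_option maxRecDepth 100000 in
theorem fc2_93 : chunk (padB K2 (Cert.factOK C2)) 2584 93 = true := by decide +kernel
set_option maxHeartbeats 0 in
set_option maxRecDepth 100000 in
theorem fc2_94 : chunk (padB K2 (Cert.factOK C2)) 2584 94 = true := by decide +kernel
set_option maxHeartbeats 0 in
set_option maxRecDepth 100000 in
theorem fc2_95 : chunk (padB K2 (Cert.factOK C2)) 2584 95 = true := by decide +kernel
set_option maxHeartbeats 0 in
set_option maxRecDepth 100000 in
theorem fc2_96 : chunk (padB K2 (Cert.factOK C2)) 2584 96 = true := by decide +kernel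
set_option maxHeartbeats 0 in
set_option maxRecDepth 100000 in
theorem fc2_97 : chunk (padB K2 (Cert.factOK C2)) 2584 97 = true := by decide +kernel
set_option maxHeartbeats 0 in
set_option maxRecDepth 100000 in
theorem fc2_98 : chunk (padB K2 (Cert.factOK C2)) 2584 98 = true := by decide +kernel
set_option maxHeartbeats 0 in
set_option maxRecDepth 100000 in
theorem fc2_99 : chunk (padB K2 (Cert.factOK C2)) 2584 99 = true := by decide +kernel
set_option maxHeartbeats 0 in
set_option maxRecDepth 100000 in
theorem fc2_100 : chunk (padB K2 (Cert.factOK C2)) 2584 100 = true := by decide +kernel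
set_option maxHeartbeats 0 in
set_option maxRecDepth 100000 in
theorem fc2_101 : chunk (padB K2 (Cert.factOK C2)) 2584 101 = true := by decide +kernel
set_option maxHeartbeats 0 in
set_option maxRecDepth 100000 in
theorem fc2_102 : chunk (padB K2 (Cert.factOK C2)) 2584 102 = true := by decide +kernel
set_option maxHeartbeats 0 in
set_option maxRecDepth 100000 in
theorem fc2_103 : chunk (padB K2 (Cert.factOK C2)) 2584 103 = true := by decide +kernel
set_option maxHeartbeats 0 in
set_option maxRecDepth 100000 in
theorem fc2_104 : chunk (padB K2 (Cert.factOK C2)) 2584 104 = true := by decide +kernel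
set_option maxHeartbeats 0 in
set_option maxRecDepth 100000 in
theorem fc2_105 : chunk (padB K2 (Cert.factOK C2)) 2584 105 = true := by decide +kernel
set_option maxHeartbeats 0 in
set_option maxRecDepth 100000 in
theorem fc2_106 : chunk (padB K2 (Cert.factOK C2)) 2584 106 = true := by decide +kernel
set_option maxHeartbeats 0 in
set_option maxRecDepth 100000 in
theorem fc2_107 : chunk (padB K2 (Cert.factOK C2)) 2584 107 = true := by decide +kernel
set_option maxHeartbeats 0 in
set_option maxRecDepth 100000 in
theorem fc2_108 : chunk (padB K2 (Cert.factOK C2)) 2584 108 = true := by decide +kernel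
set_option maxHeartbeats 0 in
set_option maxRecDepth 100000 in
theorem fc2_109 : chunk (padB K2 (Cert.factOK C2)) 2584 109 = true := by decide +kernel
set_option maxHeartbeats 0 in
set_option maxRecDepth 100000 in
theorem fc2_110 : chunk (padB K2 (Cert.factOK C2)) 2584 110 = true := by decide +kernel
set_option maxHeartbeats 0 in
set_option maxRecDepth 100000 in
theorem fc2_111 : chunk (padB K2 (Cert.factOK C2)) 2584 111 = true := by decide +kernel
set_option maxHeartbeats 0 in
set_option maxRecDepth 100000 in
theorem fc2_112 : chunk (padB K2 (Cert.factOK C2)) 2584 112 = true := by decide +kernel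
set_option maxHeartbeats 0 in
set_option maxRecDepth 100000 in
theorem fc2_113 : chunk (padB K2 (Cert.factOK C2)) 2584 113 = true := by decide +kernel
set_option maxHeartbeats 0 in
set_option maxRecDepth 100000 in
theorem fc2_114 : chunk (padB K2 (Cert.factOK C2)) 2584 114 = true := by decide +kernel
set_option maxHeartbeats 0 in
set_option maxRecDepth 100000 in
theorem fc2_115 : chunk (padB K2 (Cert.factOK C2)) 2584 115 = true := by decide +kernel
set_option maxHeartbeats 0 in
set_option maxRecDepth 100000 in
theorem fc2_116 : chunk (padB K2 (Cert.factOK C2)) 2584 116 = true := by decide +kernel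
set_option maxHeartbeats 0 in
set_option maxRecDepth 100000 in
theorem fc2_117 : chunk (padB K2 (Cert.factOK C2)) 2584 117 = true := by decide +kernel
set_option maxHeartbeats 0 in
set_option maxRecDepth 100000 in
theorem fc2_118 : chunk (padB K2 (Cert.factOK C2)) 2584 118 = true := by decide +kernel
set_option maxHeartbeats 0 in
set_option maxRecDepth 100000 in
theorem fc2_119 : chunk (padB K2 (Cert.factOK C2)) 2584 119 = true := by decide +kernel

end Cfsg.Agent.Lib.KnownSimple.HeP
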