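import Cfsg.Agent.Lib.KnownSimple.HeP.Def2

/-!
# A coset enumeration: the facts
-/

set_option autoImplicit false

namespace Cfsg.Agent.Lib.KnownSimple.HeP

open Cfsg Cfsg.Spor Cfsg.Agent.Lib.Compute Cfsg.Agent.Lib.KnownSimple.PE Cfsg.Agent.Lib.KnownSimple.Leech
open Cfsg.Agent.Lib.KnownSimple Cfsg.Agent.Lib.KnownSimple.AutRigid Cfsg.Agent.Lib.KnownSimple.Pres

set_option maxHeartbeats 0 in
set_option maxRecDepth 100000 in
theorem fc2_120 : chunk (padB K2 (Cert.factOK C2)) 2584 120 = true := by decide +kernel
set_option maxHeartbeats 0 in
set_option maxRecDepth 100000 in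
theorem fc2_121 : chunk (padB K2 (Cert.factOK C2)) 2584 121 = true := by decide +kernel
set_option maxHeartbeats 0 in
set_option maxRecDepth 100000 in
theorem fc2_122 : chunk (padB K2 (Cert.factOK C2)) 2584 122 = true := by decide +kernel
set_option maxHeartbeats 0 in
set_option maxRecDepth 100000 in
theorem fc2_123 : chunk (padB K2 (Cert.factOK C2)) 2584 123 = true := by decide +kernel
set_option maxHeartbeats 0 in
set_option maxRecDepth 100000 in
theorem fc2_124 : chunk (padB K2 (Cert.factOK C2)) 2584 124 = true := by decide +kernel
set_option maxHeartbeats 0 in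
set_option maxRecDepth 100000 in
theorem fc2_125 : chunk (padB K2 (Cert.factOK C2)) 2584 125 = true := by decide +kernel
set_option maxHeartbeats 0 in
set_option maxRecDepth 100000 in
theorem fc2_126 : chunk (padB K2 (Cert.factOK C2)) 2584 126 = true := by decide +kernel
set_option maxHeartbeats 0 in
set_option maxRecDepth 100000 in
theorem fc2_127 : chunk (padB K2 (Cert.factOK C2)) 2584 127 = true := by decide +kernel
set_option maxHeartbeats 0 in
set_option maxRecDepth 100000 in
theorem fc2_128 : chunk (padB K2 (Cert.factOK C2)) 2584 128 = true := by decide +kernel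
set_option maxHeartbeats 0 in
set_option maxRecDepth 100000 in
theorem fc2_129 : chunk (padB K2 (Cert.factOK C2)) 2584 129 = true := by decide +kernel
set_option maxHeartbeats 0 in
set_option maxRecDepth 100000 in
theorem fc2_130 : chunk (padB K2 (Cert.factOK C2)) 2584 130 = true := by decide +kernel
set_option maxHeartbeats 0 in
set_option maxRecDepth 100000 in
theorem fc2_131 : chunk (padB K2 (Cert.factOK C2)) 2584 131 = true := by decide +kernel
set_option maxHeartbeats 0 in
set_option maxRecDepth 100000 in
theorem fc2_132 : chunk (padB K2 (Cert.factOK C2)) 2584 132 = true := by decide +kernel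
set_option maxHeartbeats 0 in
set_option maxRecDepth 100000 in
theorem fc2_133 : chunk (padB K2 (Cert.factOK C2)) 2584 133 = true := by decide +kernel
set_option maxHeartbeats 0 in
set_option maxRecDepth 100000 in
theorem fc2_134 : chunk (padB K2 (Cert.factOK C2)) 2584 134 = true := by decide +kernel
set_option maxHeartbeats 0 in
set_option maxRecDepth 100000 in
theorem fc2_135 : chunk (padB K2 (Cert.factOK C2)) 2584 135 = true := by decide +kernel

end Cfsg.Agent.Lib.KnownSimple.HeP
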