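import Cfsg.Agent.Lib.KnownSimple.HeP.Fact2_0
import Cfsg.Agent.Lib.KnownSimple.HeP.Fact2_1
import Cfsg.Agent.Lib.KnownSimple.HeP.Fact2_2
import Cfsg.Agent.Lib.KnownSimple.HeP.Fact2_3

/-!
# A coset enumeration
-/

set_option autoImplicit false

namespace Cfsg.Agent.Lib.KnownSimple.HeP

open Cfsg Cfsg.Spor Cfsg.Agent.Lib.Compute Cfsg.Agent.Lib.KnownSimple.PE Cfsg.Agent.Lib.KnownSimple.Leech
open Cfsg.Agent.Lib.KnownSimple Cfsg.Agent.Lib.KnownSimple.AutRigid Cfsg.Agent.Lib.KnownSimple.Pres


theorem facts2 : allBelow (Cert.factOK C2) K2 = true :=
  allBelow_of_pad (m := 136) (s := 2584) (by norm_num) (fun c hc => by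
    interval_cases c
    · exact fc2_0
    · exact fc2_1
    · exact fc2_2
    · exact fc2_3
    · exact fc2_4
    · exact fc2_5
    · exact fc2_6
    · exact fc2_7
    · exact fc2_8
    · exact fc2_9
    · exact fc2_10
    · exact fc2_11
    · exact fc2_12
    · exact fc2_13
    · exact fc2_14
    · exact fc2_15
    · exact fc2_16
    · exact fc2_17
    · exact fc2_18
    · exact fc2_19
    · exact fc2_20
    · exact fc2_21
    · exact fc2_22
    · exact fc2_23
    · exact fc2_24
    · exact fc2_25
    · exact fc2_26
    · exact fc2_27
    · exact fc2_28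
    · exact fc2_29
    · exact fc2_30
    · exact fc2_31
    · exact fc2_32
    · exact fc2_33
    · exact fc2_34
    · exact fc2_35
    · exact fc2_36
    · exact fc2_37
    · exact fc2_38
    · exact fc2_39
    · exact fc2_40
    · exact fc2_41
    · exact fc2_42
    · exact fc2_43
    · exact fc2_44
    · exact fc2_45
    · exact fc2_46
    · exact fc2_47
    · exact fc2_48
    · exact fc2_49
    · exact fc2_50
    · exact fc2_51
    · exact fc2_52
    · exact fc2_53
    · exact fc2_54
    · exact fc2_55
    · exact fc2_56
    · exact fc2_57
    · exact fc2_58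
    · exact fc2_59
    · exact fc2_60
    · exact fc2_61
    · exact fc2_62
    · exact fc2_63
    · exact fc2_64
    · exact fc2_65
    · exact fc2_66
    · exact fc2_67
    · exact fc2_68
    · exact fc2_69
    · exact fc2_70
    · exact fc2_71
    · exact fc2_72
    · exact fc2_73
    · exact fc2_74
    · exact fc2_75
    · exact fc2_76
    · exact fc2_77
    · exact fc2_78
    · exact fc2_79
    · exact fc2_80
    · exact fc2_81
    · exact fc2_82
    · exact fc2_83
    · exact fc2_84
    · exact fc2_85
    · exact fc2_86
    · exact fc2_87
    · exact fc2_88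
    · exact fc2_89
    · exact fc2_90
    · exact fc2_91
    · exact fc2_92
    · exact fc2_93
    · exact fc2_94
    · exact fc2_95
    · exact fc2_96
    · exact fc2_97
    · exact fc2_98
    · exact fc2_99
    · exact fc2_100
    · exact fc2_101
    · exact fc2_102
    · exact fc2_103
    · exact fc2_104
    · exact fc2_105
    · exact fc2_106
    · exact fc2_107
    · exact fc2_108
    · exact fc2_109
    · exact fc2_110
    · exact fc2_111
    · exact fc2_112
    · exact fc2_113
    · exact fc2_114
    · exact fc2_115
    · exact fc2_116
    · exact fc2_117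
    · exact fc2_118
    · exact fc2_119
    · exact fc2_120
    · exact fc2_121
    · exact fc2_122
    · exact fc2_123
    · exact fc2_124
    · exact fc2_125
    · exact fc2_126
    · exact fc2_127
    · exact fc2_128
    · exact fc2_129
    · exact fc2_130
    · exact fc2_131
    · exact fc2_132
    · exact fc2_133
    · exact fc2_134
    · exact fc2_135
  )
set_option maxHeartbeats 0 in
set_option maxRecDepth 100000 in
theorem ec2_0 : chunk (padB 49980 (fun i => allBelow (fun g => Cert.entry C2 49980 K2 g i) 7)) 2584 0 = true := by decide +kernel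
set_option maxHeartbeats 0 in
set_option maxRecDepth 100000 in
theorem ec2_1 : chunk (padB 49980 (fun i => allBelow (fun g => Cert.entry C2 49980 K2 g i) 7)) 2584 1 = true := by decide +kernel
set_option maxHeartbeats 0 in
set_option maxRecDepth 100000 in
theorem ec2_2 : chunk (padB 49980 (fun i => allBelow (fun g => Cert.entry C2 49980 K2 g i) 7)) 2584 2 = true := by decide +kernel
set_option maxHeartbeats 0 in
set_option maxRecDepth 100000 in
theorem ec2_3 : chunk (padB 49980 (fun i => allBelow (fun g => Cert.entry C2 49980 K2 g i) 7)) 2584 3 = true := by decide +kernel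
set_option maxHeartbeats 0 in
set_option maxRecDepth 100000 in
theorem ec2_4 : chunk (padB 49980 (fun i => allBelow (fun g => Cert.entry C2 49980 K2 g i) 7)) 2584 4 = true := by decide +kernel
set_option maxHeartbeats 0 in
set_option maxRecDepth 100000 in
theorem ec2_5 : chunk (padB 49980 (fun i => allBelow (fun g => Cert.entry C2 49980 K2 g i) 7)) 2584 5 = true := by decide +kernel
set_option maxHeartbeats 0 in
set_option maxRecDepth 100000 in
theorem ec2_6 : chunk (padB 49980 (fun i => allBelow (fun g => Cert.entry C2 49980 K2 g i) 7)) 2584 6 = true := by decide +kernel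
set_option maxHeartbeats 0 in
set_option maxRecDepth 100000 in
theorem ec2_7 : chunk (padB 49980 (fun i => allBelow (fun g => Cert.entry C2 49980 K2 g i) 7)) 2584 7 = true := by decide +kernel
set_option maxHeartbeats 0 in
set_option maxRecDepth 100000 in
theorem ec2_8 : chunk (padB 49980 (fun i => allBelow (fun g => Cert.entry C2 49980 K2 g i) 7)) 2584 8 = true := by decide +kernel
set_option maxHeartbeats 0 in
set_option maxRecDepth 100000 in
theorem ec2_9 : chunk (padB 49980 (fun i => allBelow (fun g => Cert.entry C2 49980 K2 g i) 7)) 2584 9 = true := by decide +kernel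
set_option maxHeartbeats 0 in
set_option maxRecDepth 100000 in
theorem ec2_10 : chunk (padB 49980 (fun i => allBelow (fun g => Cert.entry C2 49980 K2 g i) 7)) 2584 10 = true := by decide +kernel
set_option maxHeartbeats 0 in
set_option maxRecDepth 100000 in
theorem ec2_11 : chunk (padB 49980 (fun i => allBelow (fun g => Cert.entry C2 49980 K2 g i) 7)) 2584 11 = true := by decide +kernel
set_option maxHeartbeats 0 in
set_option maxRecDepth 100000 in
theorem ec2_12 : chunk (padB 49980 (fun i => allBelow (fun g => Cert.entry C2 49980 K2 g i) 7)) 2584 12 = true := by decide +kernel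
set_option maxHeartbeats 0 in
set_option maxRecDepth 100000 in
theorem ec2_13 : chunk (padB 49980 (fun i => allBelow (fun g => Cert.entry C2 49980 K2 g i) 7)) 2584 13 = true := by decide +kernel
set_option maxHeartbeats 0 in
set_option maxRecDepth 100000 in
theorem ec2_14 : chunk (padB 49980 (fun i => allBelow (fun g => Cert.entry C2 49980 K2 g i) 7)) 2584 14 = true := by decide +kernel
set_option maxHeartbeats 0 in
set_option maxRecDepth 100000 in
theorem ec2_15 : chunk (padB 49980 (fun i => allBelow (fun g => Cert.entry C2 49980 K2 g i) 7)) 2584 15 = true := by decide +kernel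
set_option maxHeartbeats 0 in
set_option maxRecDepth 100000 in
theorem ec2_16 : chunk (padB 49980 (fun i => allBelow (fun g => Cert.entry C2 49980 K2 g i) 7)) 2584 16 = true := by decide +kernel
set_option maxHeartbeats 0 in
set_option maxRecDepth 100000 in
theorem ec2_17 : chunk (padB 49980 (fun i => allBelow (fun g => Cert.entry C2 49980 K2 g i) 7)) 2584 17 = true := by decide +kernel
set_option maxHeartbeats 0 in
set_option maxRecDepth 100000 in
theorem ec2_18 : chunk (padB 49980 (fun i => allBelow (fun g => Cert.entry C2 49980 K2 g i) 7)) 2584 18 = true := by decide +kernel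
set_option maxHeartbeats 0 in
set_option maxRecDepth 100000 in
theorem ec2_19 : chunk (padB 49980 (fun i => allBelow (fun g => Cert.entry C2 49980 K2 g i) 7)) 2584 19 = true := by decide +kernel

theorem entries2 : allBelow (fun i => allBelow (fun g => Cert.entry C2 49980 K2 g i) 7) 49980 = true :=
  allBelow_of_pad (m := 20) (s := 2584) (by norm_num) (fun c hc => by
    interval_cases c
    · exact ec2_0
    · exact ec2_1
    · exact ec2_2
    · exact ec2_3
    · exact ec2_4
    · exact ec2_5
    · exact ec2_6
    · exact ec2_7
    · exact ec2_8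
    · exact ec2_9
    · exact ec2_10
    · exact ec2_11
    · exact ec2_12
    · exact ec2_13
    · exact ec2_14
    · exact ec2_15
    · exact ec2_16
    · exact ec2_17
    · exact ec2_18
    · exact ec2_19
  )

end Cfsg.Agent.Lib.KnownSimple.HeP
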