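import Cfsg.Agent.Lib.KnownSimple.HeP.FactA_0

/-!
# A coset enumeration
-/

set_option autoImplicit false

namespace Cfsg.Agent.Lib.KnownSimple.HeP

open Cfsg Cfsg.Spor Cfsg.Agent.Lib.Compute Cfsg.Agent.Lib.KnownSimple.PE Cfsg.Agent.Lib.KnownSimple.Leech
open Cfsg.Agent.Lib.KnownSimple Cfsg.Agent.Lib.KnownSimple.AutRigid Cfsg.Agent.Lib.KnownSimple.Pres


theorem factsA : allBelow (Cert.factOK CA) KA = true :=
  allBelow_of_pad (m := 30) (s := 2584) (by norm_num) (fun c hc => by
    interval_cases c
    · exact fcA_0
    · exact fcA_1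
    · exact fcA_2
    · exact fcA_3
    · exact fcA_4
    · exact fcA_5
    · exact fcA_6
    · exact fcA_7
    · exact fcA_8
    · exact fcA_9
    · exact fcA_10
    · exact fcA_11
    · exact fcA_12
    · exact fcA_13
    · exact fcA_14
    · exact fcA_15
    · exact fcA_16
    · exact fcA_17
    · exact fcA_18
    · exact fcA_19
    · exact fcA_20
    · exact fcA_21
    · exact fcA_22
    · exact fcA_23
    · exact fcA_24
    · exact fcA_25
    · exact fcA_26
    · exact fcA_27
    · exact fcA_28
    · exact fcA_29
  )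
set_option maxHeartbeats 0 in
set_option maxRecDepth 100000 in
theorem ecA_0 : chunk (padB 15120 (fun i => [4, 6, 5, 0, 1].all fun g => Cert.entry CA 15120 KA g i)) 2584 0 = true := by decide +kernel
set_option maxHeartbeats 0 in
set_option maxRecDepth 100000 in
theorem ecA_1 : chunk (padB 15120 (fun i => [4, 6, 5, 0, 1].all fun g => Cert.entry CA 15120 KA g i)) 2584 1 = true := by decide +kernel
set_option maxHeartbeats 0 in
set_option maxRecDepth 100000 in
theorem ecA_2 : chunk (padB 15120 (fun i => [4, 6, 5, 0, 1].all fun g => Cert.entry CA 15120 KA g i)) 2584 2 = true := by decide +kernel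
set_option maxHeartbeats 0 in
set_option maxRecDepth 100000 in
theorem ecA_3 : chunk (padB 15120 (fun i => [4, 6, 5, 0, 1].all fun g => Cert.entry CA 15120 KA g i)) 2584 3 = true := by decide +kernel
set_option maxHeartbeats 0 in
set_option maxRecDepth 100000 in
theorem ecA_4 : chunk (padB 15120 (fun i => [4, 6, 5, 0, 1].all fun g => Cert.entry CA 15120 KA g i)) 2584 4 = true := by decide +kernel
set_option maxHeartbeats 0 in
set_option maxRecDepth 100000 in
theorem ecA_5 : chunk (padB 15120 (fun i => [4, 6, 5, 0, 1].all fun g => Cert.entry CA 15120 KA g i)) 2584 5 = true := by decide +kernel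

theorem entriesA : allBelow (fun i => [4, 6, 5, 0, 1].all fun g => Cert.entry CA 15120 KA g i) 15120 = true :=
  allBelow_of_pad (m := 6) (s := 2584) (by norm_num) (fun c hc => by
    interval_cases c
    · exact ecA_0
    · exact ecA_1
    · exact ecA_2
    · exact ecA_3
    · exact ecA_4
    · exact ecA_5
  )

end Cfsg.Agent.Lib.KnownSimple.HeP
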