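import Mathlib

/-!
# Lists of images
-/

set_option autoImplicit false

namespace Cfsg.Agent.Lib.KnownSimple.HeP

set_option maxRecDepth 1000000 in
/-- Generated data. -/
def ilC_3 : List ℕ := [681, 1367]

end Cfsg.Agent.Lib.KnownSimple.HeP
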