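import Cfsg.Agent.Lib.KnownSimple.HeP.Pres
import Cfsg.Agent.Lib.KnownSimple.HeP.AuxR
import Cfsg.Agent.Lib.KnownSimple.HeP.Data0_0

/-!
# A coset enumeration
-/

set_option autoImplicit false

namespace Cfsg.Agent.Lib.KnownSimple.HeP

open Cfsg Cfsg.Spor Cfsg.Agent.Lib.Compute Cfsg.Agent.Lib.KnownSimple.PE Cfsg.Agent.Lib.KnownSimple.Leech
open Cfsg.Agent.Lib.KnownSimple Cfsg.Agent.Lib.KnownSimple.AutRigid Cfsg.Agent.Lib.KnownSimple.Pres

/-- A coset enumeration. -/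
noncomputable def C0 : Cert where
  eL := 99
  ig := fun a => a
  words := [[0, 0], [1, 1], [2, 2], [3, 3], [0, 1, 0, 1, 0, 1], [1, 0, 1, 0, 1, 0], [0, 2, 0, 2, 0, 2], [2, 0, 2, 0, 2, 0], [0, 3, 0, 3, 0, 3], [3, 0, 3, 0, 3, 0], [1, 2, 1, 2], [2, 1, 2, 1], [1, 3, 1, 3], [3, 1, 3, 1], [2, 3, 2, 3, 2, 3, 2, 3], [3, 2, 3, 2, 3, 2, 3, 2], [3, 2, 3, 2, 1], [2, 3, 2, 1, 3], [3, 2, 1, 3, 2], [2, 1, 3, 2, 3]]
  sub := fun _ => false
  par := pget 8 255 par0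
  gix := pget 2 3 gix0
  dp := pget 4 15 dp0
  fa := pget 8 255 fa0
  fl := pget 2 3 fl0
  fb := pget 8 255 fb0
  fk := pget 5 31 fk0
  po := pget 11 2047 po0
  pc := pget 3 7 pc0
  pa := pget 10 1023 pa0
  can := pget 8 255 can0
  t := cns (pget 8 255 tb0_0) (cns (pget 8 255 tb0_1) (cns (pget 8 255 tb0_2) (cns (pget 8 255 tb0_3) (fun _ => 0))))
  fid := cns (pget 10 1023 fi0_0) (cns (pget 10 1023 fi0_1) (cns (pget 10 1023 fi0_2) (cns (pget 10 1023 fi0_3) (fun _ => 0))))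

/-- The number of facts. -/
abbrev K0 : ℕ := 672

set_option maxRecDepth 100000 in
theorem words0 : wordsOK (([] :: S.L.relW) ++ relR) C0.words = true := by decide +kernel

end Cfsg.Agent.Lib.KnownSimple.HeP
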