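import Cfsg.Agent.Lib.KnownSimple.HeP.Pres
import Cfsg.Agent.Lib.KnownSimple.HeP.AuxR
import Cfsg.Agent.Lib.KnownSimple.HeP.Data2_0
import Cfsg.Agent.Lib.KnownSimple.HeP.Data2_1

/-!
# A coset enumeration
-/

set_option autoImplicit false

namespace Cfsg.Agent.Lib.KnownSimple.HeP

open Cfsg Cfsg.Spor Cfsg.Agent.Lib.Compute Cfsg.Agent.Lib.KnownSimple.PE Cfsg.Agent.Lib.KnownSimple.Leech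
open Cfsg.Agent.Lib.KnownSimple Cfsg.Agent.Lib.KnownSimple.AutRigid Cfsg.Agent.Lib.KnownSimple.Pres

/-- A coset enumeration. -/
noncomputable def C2 : Cert where
  eL := 99
  ig := fun a => a
  words := [[0, 0], [1, 1], [2, 2], [3, 3], [4, 4], [5, 5], [6, 6], [0, 1, 0, 1, 0, 1], [1, 0, 1, 0, 1, 0], [0, 2, 0, 2, 0, 2], [2, 0, 2, 0, 2, 0], [0, 3, 0, 3, 0, 3], [3, 0, 3, 0, 3, 0], [0, 4, 0, 4], [4, 0, 4, 0], [0, 5, 0, 5, 0, 5, 0, 5, 0, 5, 0, 5, 0, 5, 0, 5, 0, 5, 0, 5], [5, 0, 5, 0, 5, 0, 5, 0, 5, 0, 5, 0, 5, 0, 5, 0, 5, 0, 5, 0], [0, 6, 0, 6], [6, 0, 6, 0], [1, 2, 1, 2], [2, 1, 2, 1], [1, 3, 1, 3], [3, 1, 3, 1], [1, 4, 1, 4], [4, 1, 4, 1], [1, 5, 1, 5], [5, 1, 5, 1], [1, 6, 1, 6], [6, 1, 6, 1], [2, 3, 2, 3, 2, 3, 2, 3], [3, 2,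 3, 2, 3, 2, 3, 2], [2, 4, 2, 4], [4, 2, 4, 2], [2, 5, 2, 5], [5, 2, 5, 2], [2, 6, 2, 6], [6, 2, 6, 2], [3, 4, 3, 4], [4, 3, 4, 3], [3, 5, 3, 5], [5, 3, 5, 3], [3, 6, 3, 6], [6, 3, 6, 3], [4, 5, 4, 5], [5, 4, 5, 4], [4, 6, 4, 6, 4, 6, 4, 6], [6, 4, 6, 4, 6, 4, 6, 4], [5, 6, 5, 6, 5, 6], [6, 5, 6, 5, 6, 5], [1, 3, 2, 3, 2], [3, 2, 3, 2, 1], [2, 3, 2, 1, 3], [3, 2, 1, 3, 2], [2, 1, 3, 2, 3], [1, 5, 6, 4, 5, 6, 4, 5, 6, 4], [5, 6, 4, 5, 6, 4, 5, 6, 4, 1], [6, 4, 5, 6, 4, 5, 6, 4, 1, 5], [4, 5, 6, 4, 5, 6, 4, 1, 5, 6], [5, 6, 4, 5, 6, 4, 1, 5, 6, 4], [6, 4, 5, 6, 4, 1, 5, 6, 4, 5], [4, 5, 6, 4, 1, 5, 6, 4, 5, 6], [5, 6, 4, 1, 5, 6, 4, 5, 6, 4], [6, 4, 1, 5, 6, 4, 5, 6, 4, 5], [4, 1, 5, 6, 4, 5, 6, 4, 5, 6], [4, 0, 5, 0, 5, 0, 5,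 0, 5, 0, 5], [0, 5, 0, 5, 0, 5, 0, 5, 0, 5, 4], [5, 0, 5, 0, 5, 0, 5, 0, 5, 4, 0], [0, 5, 0, 5, 0, 5, 0, 5, 4, 0, 5], [5, 0, 5, 0, 5, 0, 5, 4, 0, 5, 0], [0, 5, 0, 5, 0, 5, 4, 0, 5, 0, 5], [5, 0, 5, 0, 5, 4, 0, 5, 0, 5, 0], [0, 5, 0, 5, 4, 0, 5, 0, 5, 0, 5], [5, 0, 5, 4, 0, 5, 0, 5, 0, 5, 0], [0, 5, 4, 0, 5, 0, 5, 0, 5, 0, 5], [5, 4, 0, 5, 0, 5, 0, 5, 0, 5, 0], [5, 0, 2, 3, 5, 0, 2, 3, 5, 0, 2, 3, 5, 0, 2, 3], [0, 2, 3, 5, 0, 2, 3, 5, 0, 2, 3, 5, 0, 2, 3, 5], [2, 3, 5, 0, 2, 3, 5, 0, 2, 3, 5, 0, 2, 3, 5, 0], [3, 5, 0, 2, 3, 5, 0, 2, 3, 5, 0, 2, 3, 5, 0, 2], [5, 0, 5, 0, 1, 0, 5, 0, 5, 0, 1, 0, 5, 0, 1], [0, 5, 0, 1, 0, 5, 0, 5, 0, 1, 0, 5, 0, 1, 5], [5, 0, 1, 0, 5, 0, 5, 0, 1, 0, 5, 0, 1, 5, 0], [0, 1, 0, 5, 0, 5, 0, 1, 0, 5,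 0, 1, 5, 0, 5], [1, 0, 5, 0, 5, 0, 1, 0, 5, 0, 1, 5, 0, 5, 0], [0, 5, 0, 5, 0, 1, 0, 5, 0, 1, 5, 0, 5, 0, 1], [5, 0, 5, 0, 1, 0, 5, 0, 1, 5, 0, 5, 0, 1, 0], [0, 5, 0, 1, 0, 5, 0, 1, 5, 0, 5, 0, 1, 0, 5], [5, 0, 1, 0, 5, 0, 1, 5, 0, 5, 0, 1, 0, 5, 0], [0, 1, 0, 5, 0, 1, 5, 0, 5, 0, 1, 0, 5, 0, 5], [1, 0, 5, 0, 1, 5, 0, 5, 0, 1, 0, 5, 0, 5, 0], [0, 5, 0, 1, 5, 0, 5, 0, 1, 0, 5, 0, 5, 0, 1], [5, 0, 1, 5, 0, 5, 0, 1, 0, 5, 0, 5, 0, 1, 0], [0, 1, 5, 0, 5, 0, 1, 0, 5, 0, 5, 0, 1, 0, 5], [1, 5, 0, 5, 0, 1, 0, 5, 0, 5, 0, 1, 0, 5, 0]]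
  sub := fun x => Nat.blt x 6
  par := pgetT 16 65535 par2
  gix := pgetT 3 7 gix2
  dp := pgetT 5 31 dp2
  fa := pgetT 16 65535 fa2
  fl := pgetT 7 127 fl2
  fb := pgetT 16 65535 fb2
  fk := pgetT 7 127 fk2
  po := pgetT 20 1048575 po2
  pc := pgetT 5 31 pc2
  pa := pgetT 19 524287 pa2
  can := pgetT 16 65535 can2
  t := cns (pgetT 16 65535 tb2_0) (cns (pgetT 16 65535 tb2_1) (cns (pgetT 16 65535 tb2_2) (cns (pgetT 16 65535 tb2_3) (cns (pgetT 16 65535 tb2_4) (cns (pgetT 16 65535 tb2_5) (cns (pgetT 16 65535 tb2_6) (fun _ => 0)))))))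
  fid := cns (pgetT 19 524287 fi2_0) (cns (pgetT 19 524287 fi2_1) (cns (pgetT 19 524287 fi2_2) (cns (pgetT 19 524287 fi2_3) (cns (pgetT 19 524287 fi2_4) (cns (pgetT 19 524287 fi2_5) (cns (pgetT 19 524287 fi2_6) (fun _ => 0)))))))

/-- The number of facts. -/
abbrev K2 : ℕ := 351097

set_option maxRecDepth 100000 in
theorem words2 : wordsOK (([] :: S.L.relW) ++ relR) C2.words = true := by decide +kernel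

end Cfsg.Agent.Lib.KnownSimple.HeP
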