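import Cfsg.Agent.Lib.KnownSimple.HeP.Pres
import Cfsg.Agent.Lib.KnownSimple.HeP.DataA_0

/-!
# A coset enumeration
-/

set_option autoImplicit false

namespace Cfsg.Agent.Lib.KnownSimple.HeP

open Cfsg Cfsg.Spor Cfsg.Agent.Lib.Compute Cfsg.Agent.Lib.KnownSimple.PE Cfsg.Agent.Lib.KnownSimple.Leech
open Cfsg.Agent.Lib.KnownSimple Cfsg.Agent.Lib.KnownSimple.AutRigid Cfsg.Agent.Lib.KnownSimple.Pres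

/-- A coset enumeration. -/
noncomputable def CA : Cert where
  eL := 99
  ig := fun a => a
  words := [[4, 4], [6, 6], [5, 5], [0, 0], [1, 1], [4, 6, 4, 6, 4, 6, 4, 6], [6, 4, 6, 4, 6, 4, 6, 4], [4, 5, 4, 5], [5, 4, 5, 4], [4, 0, 4, 0], [0, 4, 0, 4], [4, 1, 4, 1], [1, 4, 1, 4], [6, 5, 6, 5, 6, 5], [5, 6, 5, 6, 5, 6], [6, 0, 6, 0], [0, 6, 0, 6], [6, 1, 6, 1], [1, 6, 1, 6], [5, 0, 5, 0, 5, 0, 5, 0, 5, 0, 5, 0, 5, 0, 5, 0, 5, 0, 5, 0], [0, 5, 0, 5, 0, 5, 0, 5, 0, 5, 0, 5, 0, 5, 0, 5, 0, 5, 0, 5], [5, 1, 5, 1], [1, 5, 1, 5], [0, 1, 0, 1, 0, 1], [1, 0, 1, 0, 1, 0], [1, 5, 6, 4, 5, 6, 4, 5, 6, 4], [5, 6, 4, 5, 6, 4, 5, 6, 4, 1], [6, 4, 5, 6, 4, 5, 6, 4, 1, 5], [4, 5, 6, 4, 5, 6, 4, 1, 5, 6], [5, 6, 4, 5, 6, 4, 1, 5, 6, 4], [6, 4, 5, 6, 4, 1, 5, 6, 4, 5], [4, 5, 6, 4, 1, 5, 6, 4,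 5, 6], [5, 6, 4, 1, 5, 6, 4, 5, 6, 4], [6, 4, 1, 5, 6, 4, 5, 6, 4, 5], [4, 1, 5, 6, 4, 5, 6, 4, 5, 6], [4, 0, 5, 0, 5, 0, 5, 0, 5, 0, 5], [0, 5, 0, 5, 0, 5, 0, 5, 0, 5, 4], [5, 0, 5, 0, 5, 0, 5, 0, 5, 4, 0], [0, 5, 0, 5, 0, 5, 0, 5, 4, 0, 5], [5, 0, 5, 0, 5, 0, 5, 4, 0, 5, 0], [0, 5, 0, 5, 0, 5, 4, 0, 5, 0, 5], [5, 0, 5, 0, 5, 4, 0, 5, 0, 5, 0], [0, 5, 0, 5, 4, 0, 5, 0, 5, 0, 5], [5, 0, 5, 4, 0, 5, 0, 5, 0, 5, 0], [0, 5, 4, 0, 5, 0, 5, 0, 5, 0, 5], [5, 4, 0, 5, 0, 5, 0, 5, 0, 5, 0]]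
  sub := fun _ => false
  par := pgetT 14 16383 parA
  gix := pgetT 3 7 gixA
  dp := pgetT 5 31 dpA
  fa := pgetT 14 16383 faA
  fl := pgetT 7 127 flA
  fb := pgetT 14 16383 fbA
  fk := pgetT 6 63 fkA
  po := pgetT 18 262143 poA
  pc := pgetT 5 31 pcA
  pa := pgetT 17 131071 paA
  can := pgetT 14 16383 canA
  t := cns (pgetT 14 16383 tbA_3) (cns (pgetT 14 16383 tbA_4) (cns (fun _ => 0) (cns (fun _ => 0) (cns (pgetT 14 16383 tbA_0) (cns (pgetT 14 16383 tbA_2) (cns (pgetT 14 16383 tbA_1) (fun _ => 0)))))))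
  fid := cns (pgetT 17 131071 fiA_3) (cns (pgetT 17 131071 fiA_4) (cns (fun _ => 0) (cns (fun _ => 0) (cns (pgetT 17 131071 fiA_0) (cns (pgetT 17 131071 fiA_2) (cns (pgetT 17 131071 fiA_1) (fun _ => 0)))))))

/-- The number of facts. -/
abbrev KA : ℕ := 76070

set_option maxRecDepth 100000 in
theorem wordsA : wordsOK ([] :: S.L.relW) CA.words = true := by decide +kernel

end Cfsg.Agent.Lib.KnownSimple.HeP
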