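import Cfsg.Agent.Lib.KnownSimple.HeP.DefA

/-!
# A coset enumeration: the facts
-/

set_option autoImplicit false

namespace Cfsg.Agent.Lib.KnownSimple.HeP

open Cfsg Cfsg.Spor Cfsg.Agent.Lib.Compute Cfsg.Agent.Lib.KnownSimple.PE Cfsg.Agent.Lib.KnownSimple.Leech
open Cfsg.Agent.Lib.KnownSimple Cfsg.Agent.Lib.KnownSimple.AutRigid Cfsg.Agent.Lib.KnownSimple.Pres

set_option maxHeartbeats 0 in
set_option maxRecDepth 100000 in
theorem fcA_0 : chunk (padB KA (Cert.factOK CA)) 2584 0 = true := by decide +kernel
set_option maxHeartbeats 0 in
set_option maxRecDepth 100000 in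
theorem fcA_1 : chunk (padB KA (Cert.factOK CA)) 2584 1 = true := by decide +kernel
set_option maxHeartbeats 0 in
set_option maxRecDepth 100000 in
theorem fcA_2 : chunk (padB KA (Cert.factOK CA)) 2584 2 = true := by decide +kernel
set_option maxHeartbeats 0 in
set_option maxRecDepth 100000 in
theorem fcA_3 : chunk (padB KA (Cert.factOK CA)) 2584 3 = true := by decide +kernel
set_option maxHeartbeats 0 in
set_option maxRecDepth 100000 in
theorem fcA_4 : chunk (padB KA (Cert.factOK CA)) 2584 4 = true := by decide +kernel
set_option maxHeartbeats 0 in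
set_option maxRecDepth 100000 in
theorem fcA_5 : chunk (padB KA (Cert.factOK CA)) 2584 5 = true := by decide +kernel
set_option maxHeartbeats 0 in
set_option maxRecDepth 100000 in
theorem fcA_6 : chunk (padB KA (Cert.factOK CA)) 2584 6 = true := by decide +kernel
set_option maxHeartbeats 0 in
set_option maxRecDepth 100000 in
theorem fcA_7 : chunk (padB KA (Cert.factOK CA)) 2584 7 = true := by decide +kernel
set_option maxHeartbeats 0 in
set_option maxRecDepth 100000 in
theorem fcA_8 : chunk (padB KA (Cert.factOK CA)) 2584 8 = true := by decide +kernel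
set_option maxHeartbeats 0 in
set_option maxRecDepth 100000 in
theorem fcA_9 : chunk (padB KA (Cert.factOK CA)) 2584 9 = true := by decide +kernel
set_option maxHeartbeats 0 in
set_option maxRecDepth 100000 in
theorem fcA_10 : chunk (padB KA (Cert.factOK CA)) 2584 10 = true := by decide +kernel
set_option maxHeartbeats 0 in
set_option maxRecDepth 100000 in
theorem fcA_11 : chunk (padB KA (Cert.factOK CA)) 2584 11 = true := by decide +kernel
set_option maxHeartbeats 0 in
set_option maxRecDepth 100000 in
theorem fcA_12 : chunk (padB KA (Cert.factOK CA)) 2584 12 = true := by decide +kernel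
set_option maxHeartbeats 0 in
set_option maxRecDepth 100000 in
theorem fcA_13 : chunk (padB KA (Cert.factOK CA)) 2584 13 = true := by decide +kernel
set_option maxHeartbeats 0 in
set_option maxRecDepth 100000 in
theorem fcA_14 : chunk (padB KA (Cert.factOK CA)) 2584 14 = true := by decide +kernel
set_option maxHeartbeats 0 in
set_option maxRecDepth 100000 in
theorem fcA_15 : chunk (padB KA (Cert.factOK CA)) 2584 15 = true := by decide +kernel
set_option maxHeartbeats 0 in
set_option maxRecDepth 100000 in
theorem fcA_16 : chunk (padB KA (Cert.factOK CA)) 2584 16 = true := by decide +kernel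
set_option maxHeartbeats 0 in
set_option maxRecDepth 100000 in
theorem fcA_17 : chunk (padB KA (Cert.factOK CA)) 2584 17 = true := by decide +kernel
set_option maxHeartbeats 0 in
set_option maxRecDepth 100000 in
theorem fcA_18 : chunk (padB KA (Cert.factOK CA)) 2584 18 = true := by decide +kernel
set_option maxHeartbeats 0 in
set_option maxRecDepth 100000 in
theorem fcA_19 : chunk (padB KA (Cert.factOK CA)) 2584 19 = true := by decide +kernel
set_option maxHeartbeats 0 in
set_option maxRecDepth 100000 in
theorem fcA_20 : chunk (padB KA (Cert.factOK CA)) 2584 20 = true := by decide +kernel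
set_option maxHeartbeats 0 in
set_option maxRecDepth 100000 in
theorem fcA_21 : chunk (padB KA (Cert.factOK CA)) 2584 21 = true := by decide +kernel
set_option maxHeartbeats 0 in
set_option maxRecDepth 100000 in
theorem fcA_22 : chunk (padB KA (Cert.factOK CA)) 2584 22 = true := by decide +kernel
set_option maxHeartbeats 0 in
set_option maxRecDepth 100000 in
theorem fcA_23 : chunk (padB KA (Cert.factOK CA)) 2584 23 = true := by decide +kernel
set_option maxHeartbeats 0 in
set_option maxRecDepth 100000 in
theorem fcA_24 : chunk (padB KA (Cert.factOK CA)) 2584 24 = true := by decide +kernel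
set_option maxHeartbeats 0 in
set_option maxRecDepth 100000 in
theorem fcA_25 : chunk (padB KA (Cert.factOK CA)) 2584 25 = true := by decide +kernel
set_option maxHeartbeats 0 in
set_option maxRecDepth 100000 in
theorem fcA_26 : chunk (padB KA (Cert.factOK CA)) 2584 26 = true := by decide +kernel
set_option maxHeartbeats 0 in
set_option maxRecDepth 100000 in
theorem fcA_27 : chunk (padB KA (Cert.factOK CA)) 2584 27 = true := by decide +kernel
set_option maxHeartbeats 0 in
set_option maxRecDepth 100000 in
theorem fcA_28 : chunk (padB KA (Cert.factOK CA)) 2584 28 = true := by decide +kernel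
set_option maxHeartbeats 0 in
set_option maxRecDepth 100000 in
theorem fcA_29 : chunk (padB KA (Cert.factOK CA)) 2584 29 = true := by decide +kernel

end Cfsg.Agent.Lib.KnownSimple.HeP
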