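import Cfsg.Agent.Lib.KnownSimple.HeP.Bound
import Cfsg.Agent.Lib.KnownSimple.HeP.DataT
import Cfsg.Agent.Lib.KnownSimple.HeP.DataL
import Cfsg.Agent.Lib.KnownSimple.Pres.Fast

/-!
# The permutation representation
-/

set_option autoImplicit false

namespace Cfsg.Agent.Lib.KnownSimple.HeP

open Cfsg Cfsg.Spor Cfsg.Agent.Lib.Compute Cfsg.Agent.Lib.KnownSimple.PE Cfsg.Agent.Lib.KnownSimple.Leech
open Cfsg.Agent.Lib.KnownSimple Cfsg.Agent.Lib.KnownSimple.AutRigid Cfsg.Agent.Lib.KnownSimple.Pres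

/-- The number of points. -/
abbrev N : ℕ := 2058
/-- The encoding. -/
abbrev E : Enc (Fin N) N := encFin N
/-- The tables of the letters. -/
noncomputable def ts : List (ℕ → ℕ) := [pgetS 12 4095 t0, pgetS 12 4095 t1, pgetS 12 4095 t2, pgetS 12 4095 t3, pgetS 12 4095 t4, pgetS 12 4095 t5, pgetS 12 4095 t6]
/-- The table of a letter. -/
noncomputable abbrev T : ℕ → ℕ → ℕ := tblOf ts
set_option maxRecDepth 100000 in
theorem hts : ∀ t ∈ ts, invOK (N := N) t = true := by decide +kernel
/-- The permutation of a letter. -/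
noncomputable abbrev lp : ℕ → Equiv.Perm (Fin N) := lpOf ts hts
set_option maxRecDepth 100000 in
theorem hcx : coxChk (N := N) S T = true := by decide +kernel
set_option maxRecDepth 100000 in
theorem hex_ : extChk (N := N) S T = true := by decide +kernel
theorem hlen : ts.length = S.gs.length := rfl
theorem exists_φ : ∃ φ : P →* Equiv.Perm (Fin N), ∀ k, φ (S.L.v k) = lp (nmOf S.gs.length k) :=
  S.exists_phi hts hlen hcx hex_
/-- The homomorphism. -/
noncomputable def φ : P →* Equiv.Perm (Fin N) := Classical.choose exists_φ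
theorem φ_v : ∀ k, φ (S.L.v k) = lp (nmOf S.gs.length k) := Classical.choose_spec exists_φ
/-- The image. -/
noncomputable abbrev H : Subgroup (Equiv.Perm (Fin N)) := φ.range
/-- The image, as a group. -/
abbrev G : Type := ↥H
theorem lp_mem (k : ℕ) : lp k ∈ H := S.lpOf_mem hts hlen φ_v k
/-- A letter in the image. -/
noncomputable def D (k : ℕ) : G := ⟨lp k, lp_mem k⟩
theorem code_D (k : ℕ) : E.IsCode ((D k : G) : Equiv.Perm (Fin N)) (T k) := code_lpOf hts k
theorem codei_D (k : ℕ) : E.IsCode ((D k)⁻¹ : G).1 (T k) := by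
  show E.IsCode (lp k)⁻¹ (T k)
  rw [lpOf_inv]
  exact code_lpOf hts k

theorem coe_code_mul {a b : G} {f g : ℕ → ℕ} (h1 : E.IsCode (a : Equiv.Perm (Fin N)) f)
    (h2 : E.IsCode (b : Equiv.Perm (Fin N)) g) :
    E.IsCode ((a * b : G) : Equiv.Perm (Fin N)) (fun i => f (g i)) := isCode_mul h1 h2

end Cfsg.Agent.Lib.KnownSimple.HeP
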