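import Cfsg.Agent.Lib.KnownSimple.HeP.SrchN1
import Cfsg.Agent.Lib.KnownSimple.HeP.SrchN3
import Cfsg.Agent.Lib.KnownSimple.HeP.SrchC

/-!
# The outer automorphism group
-/

set_option autoImplicit false

namespace Cfsg.Agent.Lib.KnownSimple.HeP

open Cfsg Cfsg.Spor Cfsg.Agent.Lib.Compute Cfsg.Agent.Lib.KnownSimple.PE Cfsg.Agent.Lib.KnownSimple.Leech
open Cfsg.Agent.Lib.KnownSimple Cfsg.Agent.Lib.KnownSimple.AutRigid Cfsg.Agent.Lib.KnownSimple.Pres

theorem hcl0 (k : ℕ) (hk : ¬ 17 ∣ k) : ∃ j, ∃ e ∈ [1, 3], k * 2 ^ j ≡ e [MOD 17] := by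
  have h1 : ∀ a : Fin 17, a.val ≠ 0 → ∃ j : Fin 8, ∃ e ∈ [1, 3], (a.val * 2 ^ j.val) % 17 = e := by
    decide
  have h2 : k % 17 ≠ 0 := fun h0 => hk (Nat.dvd_of_mod_eq_zero h0)
  obtain ⟨j, e, he, h3⟩ := h1 ⟨k % 17, Nat.mod_lt _ (by norm_num)⟩ h2
  refine ⟨j.val, e, he, ?_⟩
  have h4 : e < 17 := by
    simp only [List.mem_cons, List.not_mem_nil, or_false] at he
    omega
  unfold Nat.ModEq
  rw [Nat.mod_eq_of_lt h4, ← h3, Nat.mod_mul_mod]

theorem hcl' (k : ℕ) (hk : ¬ 17 ∣ k) : ∃ j, ∃ e ∈ [(1, 1), (3, 6)], k * 2 ^ j ≡ (e : ℕ × ℕ).1 [MOD 17] := by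
  obtain ⟨j, e, he, h⟩ := hcl0 k hk
  simp only [List.mem_cons, List.not_mem_nil, or_false] at he
  rcases he with rfl | rfl
  · exact ⟨j, (1, 1), by simp, h⟩
  · exact ⟨j, (3, 6), by simp, h⟩

theorem hN0 (j : ℕ) (hj : j ∈ [1, 3]) (g : G) (h : g * w * g⁻¹ = w ^ j) : ∃ a b : ℕ, b < 8 ∧ g = w ^ a * u ^ b := by
  simp only [List.mem_cons, List.not_mem_nil, or_false] at hj
  rcases hj with rfl | rfl
  · have h3 : (g : Equiv.Perm (Fin N)) * w = ((w ^ 1 : G) : Equiv.Perm (Fin N)) * g := by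
      rw [← h]
      have : g * w = g * w * g⁻¹ * g := by group
      exact congrArg Subtype.val this
    obtain ⟨i, _, hi⟩ := mem_list_of_searchX (cE := fun i => ((w ^ i : G) : Equiv.Perm (Fin N)))
      (cs := csN) (K := 17) grInv g.2 code_w (coe_pow_isCode code_w _) h3 17 hLsN1 hbN1 hcovN1 fast0 hflN1
      (fun i _ => (w ^ i : G).2) (fun i _ => coe_pow_isCode code_w i) sN1
    refine ⟨i, 0, by norm_num, ?_⟩
    rw [pow_zero, mul_one]
    exact Subtype.ext hi
  · have h3 : (g : Equiv.Perm (Fin N)) * w = ((w ^ 3 : G) : Equiv.Perm (Fin N)) * g := by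
      rw [← h]
      have : g * w = g * w * g⁻¹ * g := by group
      exact congrArg Subtype.val this
    obtain ⟨i, hi0, _⟩ := mem_list_of_searchX (cE := fun _ => (1 : Equiv.Perm (Fin N)))
      (cs := csN) (K := 0) grInv g.2 code_w (coe_pow_isCode code_w _) h3 17 hLsN3 hbN3 hcovN3 fast0 hflN3
      (fun i hi => absurd hi (Nat.not_lt_zero i)) (fun i hi => absurd hi (Nat.not_lt_zero i)) sN3
    exact absurd hi0 (Nat.not_lt_zero i)

theorem hN (g : G) (j : ℕ) (h : g * w * g⁻¹ = w ^ j) : ∃ a b : ℕ, b < 8 ∧ g = w ^ a * u ^ b :=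
  hN_of_eps orderOf_w (by norm_num) conj_uw u_pow (by norm_num) [1, 3] hcl0 (fun e he g h => hN0 e he g h) g j h

/-- The centraliser of `u`. -/
noncomputable def cE' (i : ℕ) : G := z0 ^ ((i) % 2) * (u ^ ((i) / 2))

theorem code_cE (i : ℕ) : E.IsCode ((cE' i : G) : Equiv.Perm (Fin N)) (csC i) := by
  unfold csC
  exact coe_code_mul (coe_pow_isCode code_z0 ((i) % 2)) (coe_pow_isCode code_u ((i) / 2))

theorem cE_zero : cE' 0 = 1 := by simp [cE']

theorem hCent (c : G) (h : c * u = u * c) : ∃ i, i < 16 ∧ c = cE' i := by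
  obtain ⟨i, hi, e⟩ := mem_list_of_searchX (cE := fun i => ((cE' i : G) : Equiv.Perm (Fin N))) (cs := csC) (K := 16)
    grInv c.2 code_u code_u (congrArg Subtype.val h) 8 hLsC hbC hcovC fastU0 hflC (fun i _ => (cE' i : G).2)
    (fun i _ => code_cE i) sC
  exact ⟨i, hi, Subtype.ext e⟩

theorem rel_x₁u : x₁ * u = u ^ 3 * x₁ :=
  eq_of_chk based2 lt2 (coe_code_mul code_x₁ code_u) (coe_code_mul (coe_pow_isCode code_u 3) code_x₁) (by decide +kernel)
theorem conj_x₁u : x₁ * u * x₁⁻¹ = u ^ 3 := by rw [rel_x₁u]; group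

/-! ### Generation -/

/-- A letter of a word. -/
noncomputable def ltr (a : ℕ) : G := lgetD 1 [w, u, x₁, w⁻¹, u⁻¹, x₁⁻¹] a
/-- The code of a letter of a word. -/
noncomputable def cltr (a : ℕ) : ℕ → ℕ := lgetD (fun i => i) [cw, cu, cx₁, ciw, ciu, cix₁] a
/-- The product of a word. -/
noncomputable def evWd (W : List ℕ) : G := W.foldr (fun a x => ltr a * x) 1
/-- The code of the product of a word. -/
noncomputable def cevW (W : List ℕ) (i : ℕ) : ℕ := List.rec i (fun a _ r => cltr a r) W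

theorem code_ltr (a : ℕ) : E.IsCode ((ltr a : G) : Equiv.Perm (Fin N)) (cltr a) := by
  match a with
  | 0 => exact code_w
  | 1 => exact code_u
  | 2 => exact code_x₁
  | 3 => exact codei_w
  | 4 => exact codei_u
  | 5 => exact codei_x₁
  | (a + 6) => exact isCode_one E

theorem mem_ltr (C : Subgroup G) (h0 : w ∈ C) (h1 : u ∈ C) (h2 : x₁ ∈ C) (a : ℕ) : ltr a ∈ C := by
  match a with
  | 0 => exact h0
  | 1 => exact h1
  | 2 => exact h2
  | 3 => exact C.inv_mem h0
  | 4 => exact C.inv_mem h1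
  | 5 => exact C.inv_mem h2
  | (a + 6) => exact C.one_mem

theorem code_evW (W : List ℕ) : E.IsCode ((evWd W : G) : Equiv.Perm (Fin N)) (cevW W) := by
  induction W with
  | nil => exact isCode_one E
  | cons a W ih => exact coe_code_mul (f := cltr a) (g := cevW W) (code_ltr a) ih

theorem mem_evW (C : Subgroup G) (h0 : w ∈ C) (h1 : u ∈ C) (h2 : x₁ ∈ C) (W : List ℕ) : evWd W ∈ C := by
  induction W with
  | nil => exact C.one_mem
  | cons a W ih => exact C.mul_mem (mem_ltr C h0 h1 h2 a) ih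

set_option maxRecDepth 100000 in
theorem D0_word : D 0 = evWd WD0 := eq_of_chk based2 lt2 (code_D 0) (code_evW WD0) (by decide +kernel)
set_option maxRecDepth 100000 in
theorem D1_word : D 1 = evWd WD1 := eq_of_chk based2 lt2 (code_D 1) (code_evW WD1) (by decide +kernel)
set_option maxRecDepth 100000 in
theorem D2_word : D 2 = evWd WD2 := eq_of_chk based2 lt2 (code_D 2) (code_evW WD2) (by decide +kernel)
set_option maxRecDepth 100000 in
theorem D3_word : D 3 = evWd WD3 := eq_of_chk based2 lt2 (code_D 3) (code_evW WD3) (by decide +kernel)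
set_option maxRecDepth 100000 in
theorem D4_word : D 4 = evWd WD4 := eq_of_chk based2 lt2 (code_D 4) (code_evW WD4) (by decide +kernel)
set_option maxRecDepth 100000 in
theorem D5_word : D 5 = evWd WD5 := eq_of_chk based2 lt2 (code_D 5) (code_evW WD5) (by decide +kernel)
set_option maxRecDepth 100000 in
theorem D6_word : D 6 = evWd WD6 := eq_of_chk based2 lt2 (code_D 6) (code_evW WD6) (by decide +kernel)

theorem closure_top : Subgroup.closure ({w, u, x₁} : Set G) = ⊤ := by
  set C := Subgroup.closure ({w, u, x₁} : Set G) with hC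
  have h0 : w ∈ C := Subgroup.subset_closure (by simp)
  have h1 : u ∈ C := Subgroup.subset_closure (by simp)
  have h2 : x₁ ∈ C := Subgroup.subset_closure (by simp)
  have hD : ∀ k, k < S.gs.length → lp k ∈ C.map H.subtype := by
    intro k hk
    have hk' : k < 7 := hk
    refine ⟨D k, ?_, rfl⟩
    interval_cases k
    · rw [D0_word]
      exact mem_evW C h0 h1 h2 _
    · rw [D1_word]
      exact mem_evW C h0 h1 h2 _
    · rw [D2_word]
      exact mem_evW C h0 h1 h2 _
    · rw [D3_word]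
      exact mem_evW C h0 h1 h2 _
    · rw [D4_word]
      exact mem_evW C h0 h1 h2 _
    · rw [D5_word]
      exact mem_evW C h0 h1 h2 _
    · rw [D6_word]
      exact mem_evW C h0 h1 h2 _
  rw [eq_top_iff]
  intro g _
  obtain ⟨g', hg', e⟩ := (S.range_le hts φ_v hD) g.2
  have : g' = g := Subtype.ext e
  rwa [← this]

/-- The generators at the first step. -/
noncomputable def gs₁ : ℕ → G := cns w (cns u (fun _ => 1))
/-- Their codes. -/
noncomputable def cs₁ : ℕ → ℕ → ℕ := cns cw (cns cu (fun _ a => a))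

theorem cs₁_code (i : ℕ) : E.IsCode ((gs₁ i : G) : Equiv.Perm (Fin N)) (cs₁ i) := by
  match i with
  | 0 => exact code_w
  | 1 => exact code_u
  | (k + 2) => exact isCode_one E

/-- The images of the first generators. -/
noncomputable def cs₃ (e : ℕ) : ℕ → ℕ → ℕ := cns (iterN cw e) (cns cu (fun _ a => a))

theorem cs₃_code (ψ : MulAut G) (e : ℕ) (h1 : ψ w = w ^ e) (h2 : ψ u = u) (i : ℕ) :
    E.IsCode ((ψ (gs₁ i) : G) : Equiv.Perm (Fin N)) (cs₃ e i) := by
  match i with
  | 0 =>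
    show E.IsCode ((ψ w : G) : Equiv.Perm (Fin N)) _
    rw [h1]
    exact coe_pow_isCode code_w e
  | 1 =>
    show E.IsCode ((ψ u : G) : Equiv.Perm (Fin N)) _
    rw [h2]
    exact code_u
  | (k + 2) =>
    show E.IsCode ((ψ 1 : G) : Equiv.Perm (Fin N)) (fun a => a)
    rw [map_one]
    exact isCode_one E

theorem key₀ (ψ : MulAut G) (h1 : ψ w = w) (h2 : ψ u = u) (h3 : ψ x₁ = x₁) : ψ = 1 := by
  apply Cfsg.Agent.Lib.KnownSimple.PE.eq_one_of_fix closure_top
  rintro g (rfl | rfl | rfl)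
  · exact h1
  · exact h2
  · exact h3

theorem card_not : ¬ 17 ^ 2 ∣ Nat.card G := by
  rw [show Nat.card G = 4030387200 from card_H]
  norm_num

theorem hrb : ∀ b, b < 8 → 2 ^ b ≡ 2 [MOD 17] → b = 1 := by decide
theorem hrb₀ : ∀ b, b < 8 → 2 ^ b ≡ 1 [MOD 17] → b = 0 := by decide
theorem hk₀ : 1 + 1 ≡ 2 * 1 [MOD 17] := by decide
theorem hk₁ : 1 * 2 ≡ 1 + 1 [MOD 17] := by decide

/-- The table of the outer element. -/
noncomputable def tf : ℕ → ℕ := pgetS 12 4095 tfT
/-- The table of the inverse of the outer element. -/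
noncomputable def tfi : ℕ → ℕ := pgetS 12 4095 tfI
set_option maxRecDepth 100000 in
theorem chkF : chkT (N := N) tf tfi = true := by decide +kernel
/-- The outer element. -/
noncomputable def fP : Equiv.Perm (Fin N) := permT tf tfi chkF
theorem code_fP : E.IsCode fP tf := code_permT _ _ chkF
theorem codei_fP : E.IsCode fP⁻¹ tfi := codei_permT _ _ chkF

theorem fP_letter : ∀ k, k < S.gs.length → fP * lp k * fP⁻¹ ∈ H := by
  intro k hk
  have hk' : k < 7 := hk
  refine siftE_sound hLf hFL (isCode_mul (isCode_mul code_fP (code_lpOf hts k)) codei_fP) ?_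
  interval_cases k
  · decide +kernel
  · decide +kernel
  · decide +kernel
  · decide +kernel
  · decide +kernel
  · decide +kernel
  · decide +kernel

theorem fP_norm : ∀ σ ∈ H, fP * σ * fP⁻¹ ∈ H := by
  have h : H ≤ H.comap (MulAut.conj fP).toMonoidHom :=
    S.range_le hts φ_v (fun k hk => fP_letter k hk)
  exact fun σ hσ => h hσ

set_option maxRecDepth 100000 in
theorem fP_sq : fP * fP ∈ H := siftE_sound hLf hFL (isCode_mul code_fP code_fP) (by decide +kernel)

/-- The outer automorphism. -/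
noncomputable def τ : MulAut G := tauN fP_sq fP_norm
theorem τ_sq : τ * τ ∈ Inn G := tauN_sq fP_sq fP_norm

theorem code_τ {g : G} {c : ℕ → ℕ} (h : E.IsCode (g : Equiv.Perm (Fin N)) c) :
    E.IsCode ((τ g : G) : Equiv.Perm (Fin N)) (fun i => tf (c (tfi i))) := by
  have h1 : E.IsCode (fP * (g : Equiv.Perm (Fin N))) (fun i => tf (c i)) := isCode_mul code_fP h
  exact isCode_mul (f := fun i => tf (c i)) (g := tfi) h1 codei_fP

theorem τ_w : τ w = w ^ 3 := eq_of_chk based2 lt2 (code_τ code_w) (coe_pow_isCode code_w 3) (by decide +kernel)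
theorem τ_u : τ u = u := eq_of_chk based2 lt2 (code_τ code_u) code_u (by decide +kernel)

/-- The accepted candidates. -/
noncomputable def acc (i : ℕ) : Bool := Nat.beq i 0

theorem tb1 : tblY (basesOf Ls) cs₁ (cs₃ 1) cx₁ csC tbl1 16 acc = true := by decide +kernel

theorem key₁ (ψ : MulAut G) (h1 : ψ w = w) (h2 : ψ u = u) : ψ = 1 := by
  obtain ⟨i, hi, h3⟩ := step_tblY based2 lt2 ψ hCent conj_x₁u h2 cs₁_code (cs₃_code ψ 1 (by rw [pow_one]; exact h1) h2) code_x₁ code_cE tb1
  have hi0 : i = 0 := Nat.eq_of_beq_eq_true hi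
  subst hi0
  rw [cE_zero, mul_one] at h3
  exact key₀ ψ h1 h2 h3

theorem key_e (ψ : MulAut G) (h1 : ψ w = w ^ 3) (h2 : ψ u = u) : ψ = τ := by
  have h5 : τ⁻¹ * ψ = 1 := by
    apply key₁
    · show τ⁻¹ (ψ w) = w
      rw [h1, ← τ_w]
      exact MulEquiv.symm_apply_apply τ w
    · show τ⁻¹ (ψ u) = u
      rw [h2]
      conv_lhs => rw [← τ_u]
      exact MulEquiv.symm_apply_apply τ u
  calc ψ = τ * (τ⁻¹ * ψ) := by group
    _ = τ := by rw [h5, mul_one]

theorem hneg : ∀ b, b < 8 → ¬ 2 ^ b ≡ 3 [MOD 17] := by decide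

theorem card_out_G : Nat.card (Out G) = 2 := by
  refine card_out_eq_two (τ := τ) (not_mem_inn' orderOf_w conj_uw hN hneg τ_w) ?_
  refine inner_or_classes' (p := 17) (r := 2) (m := 8) (k₀ := 1) (by norm_num) orderOf_w card_not conj_uw u_pow hN hrb hk₀ [(1, 1), (3, 6)] hcl' (by decide) τ_sq ?_
  intro e he ψ h1 h2
  simp only [List.mem_cons, List.not_mem_nil, or_false] at he
  rcases he with rfl | rfl
  · left
    rw [pow_one] at h1
    exact key₁ ψ h1 h2
  · right
    exact key_e ψ h1 h2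

theorem card_out : Nat.card (Out P) = 2 := by
  rw [card_out_congr (equivRange φ hinj)]
  exact card_out_G

end Cfsg.Agent.Lib.KnownSimple.HeP
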