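import Cfsg.Prelude.Def_Spor_He
import Cfsg.Agent.Lib.KnownSimple.Pres.Out

/-!
# The presentation
-/

set_option autoImplicit false

namespace Cfsg.Agent.Lib.KnownSimple.HeP

open Cfsg Cfsg.Spor Cfsg.Agent.Lib.Compute Cfsg.Agent.Lib.KnownSimple.PE Cfsg.Agent.Lib.KnownSimple.Leech
open Cfsg.Agent.Lib.KnownSimple Cfsg.Agent.Lib.KnownSimple.AutRigid Cfsg.Agent.Lib.KnownSimple.Pres

/-- The presentation on involutions. -/
noncomputable def S : StdPres He.edges He.extra where
  gs := [.d, .e, .f, .g, .a, .c, .b]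
  hall := by intro x; cases x <;> decide
  hnd := by decide
  hnodes := by decide
  extraW := [[1, 10, 9, 10, 9], [1, 12, 13, 11, 12, 13, 11, 12, 13, 11], [4, 7, 12, 7, 12, 7, 12, 7, 12, 7, 12], [5, 0, 2, 3, 5, 0, 2, 3, 5, 0, 2, 3, 5, 0, 2, 3]]
  hextra := by decide +kernel

/-- The group. -/
abbrev P : Type := Spor.He
/-- The letters of the group. -/
noncomputable abbrev v : ℕ → P := S.L.v

end Cfsg.Agent.Lib.KnownSimple.HeP
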