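import Cfsg.Agent.Lib.KnownSimple.HeP.Pre

/-!
# A search
-/

set_option autoImplicit false

namespace Cfsg.Agent.Lib.KnownSimple.HeP

open Cfsg Cfsg.Spor Cfsg.Agent.Lib.Compute Cfsg.Agent.Lib.KnownSimple.PE Cfsg.Agent.Lib.KnownSimple.Leech
open Cfsg.Agent.Lib.KnownSimple Cfsg.Agent.Lib.KnownSimple.AutRigid Cfsg.Agent.Lib.KnownSimple.Pres

set_option maxHeartbeats 0 in
set_option maxRecDepth 100000 in
theorem sN1_0 : chunk (padB N gN1) 2584 0 = true := by decide +kernel
theorem sN1 : allBelow gN1 N = true :=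
  allBelow_of_pad (m := 1) (s := 2584) (by norm_num) (fun c hc => by
    interval_cases c
    · exact sN1_0
  )

end Cfsg.Agent.Lib.KnownSimple.HeP
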