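import Cfsg.Agent.Lib.KnownSimple.HeP.Hom

/-!
# Strong generators
-/

set_option autoImplicit false

namespace Cfsg.Agent.Lib.KnownSimple.HeP

open Cfsg Cfsg.Spor Cfsg.Agent.Lib.Compute Cfsg.Agent.Lib.KnownSimple.PE Cfsg.Agent.Lib.KnownSimple.Leech
open Cfsg.Agent.Lib.KnownSimple Cfsg.Agent.Lib.KnownSimple.AutRigid Cfsg.Agent.Lib.KnownSimple.Pres

/-- A strong generator. -/
noncomputable def R7 : G := (D 0) * ((D 2) * ((D 5) * ((D 6) * ((D 4)))))
/-- The code of a strong generator. -/
noncomputable def cR7 : ℕ → ℕ := pgetS 12 4095 TR7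
/-- The inverse code of a strong generator. -/
noncomputable def ciR7 : ℕ → ℕ := pgetS 12 4095 TI7
set_option maxRecDepth 100000 in
theorem code_R7 : E.IsCode ((R7 : G) : Equiv.Perm (Fin N)) (cR7) :=
  congr_of_chk (coe_code_mul (code_D 0) (coe_code_mul (code_D 2) (coe_code_mul (code_D 5) (coe_code_mul (code_D 6) ((code_D 4)))))) (by decide +kernel)
set_option maxRecDepth 100000 in
theorem codei_R7 : E.IsCode ((R7⁻¹ : G) : Equiv.Perm (Fin N)) (ciR7) :=
  inv_of_chk code_R7 (by decide +kernel)
/-- A strong generator. -/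
noncomputable def R8 : G := (D 3) * ((D 0) * ((D 6) * ((D 5))))
/-- The code of a strong generator. -/
noncomputable def cR8 : ℕ → ℕ := pgetS 12 4095 TR8
/-- The inverse code of a strong generator. -/
noncomputable def ciR8 : ℕ → ℕ := pgetS 12 4095 TI8
set_option maxRecDepth 100000 in
theorem code_R8 : E.IsCode ((R8 : G) : Equiv.Perm (Fin N)) (cR8) :=
  congr_of_chk (coe_code_mul (code_D 3) (coe_code_mul (code_D 0) (coe_code_mul (code_D 6) ((code_D 5))))) (by decide +kernel)
set_option maxRecDepth 100000 in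
theorem codei_R8 : E.IsCode ((R8⁻¹ : G) : Equiv.Perm (Fin N)) (ciR8) :=
  inv_of_chk code_R8 (by decide +kernel)
/-- A strong generator. -/
noncomputable def R9 : G := (D 0) * ((D 6) * ((D 2) * ((D 5) * ((D 0) * ((D 2))))))
/-- The code of a strong generator. -/
noncomputable def cR9 : ℕ → ℕ := pgetS 12 4095 TR9
/-- The inverse code of a strong generator. -/
noncomputable def ciR9 : ℕ → ℕ := pgetS 12 4095 TI9
set_option maxRecDepth 100000 in
theorem code_R9 : E.IsCode ((R9 : G) : Equiv.Perm (Fin N)) (cR9) :=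
  congr_of_chk (coe_code_mul (code_D 0) (coe_code_mul (code_D 6) (coe_code_mul (code_D 2) (coe_code_mul (code_D 5) (coe_code_mul (code_D 0) ((code_D 2))))))) (by decide +kernel)
set_option maxRecDepth 100000 in
theorem codei_R9 : E.IsCode ((R9⁻¹ : G) : Equiv.Perm (Fin N)) (ciR9) :=
  inv_of_chk code_R9 (by decide +kernel)
/-- A strong generator. -/
noncomputable def R10 : G := (D 3) * ((D 0) * ((D 1) * ((D 5) * ((D 6) * ((D 3))))))
/-- The code of a strong generator. -/
noncomputable def cR10 : ℕ → ℕ := pgetS 12 4095 TR10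
/-- The inverse code of a strong generator. -/
noncomputable def ciR10 : ℕ → ℕ := pgetS 12 4095 TI10
set_option maxRecDepth 100000 in
theorem code_R10 : E.IsCode ((R10 : G) : Equiv.Perm (Fin N)) (cR10) :=
  congr_of_chk (coe_code_mul (code_D 3) (coe_code_mul (code_D 0) (coe_code_mul (code_D 1) (coe_code_mul (code_D 5) (coe_code_mul (code_D 6) ((code_D 3))))))) (by decide +kernel)
set_option maxRecDepth 100000 in
theorem codei_R10 : E.IsCode ((R10⁻¹ : G) : Equiv.Perm (Fin N)) (ciR10) :=
  inv_of_chk code_R10 (by decide +kernel)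
/-- A strong generator. -/
noncomputable def R11 : G := (D 0)⁻¹ * ((D 4)⁻¹ * ((D 6) * ((D 4) * ((D 0)))))
/-- The code of a strong generator. -/
noncomputable def cR11 : ℕ → ℕ := pgetS 12 4095 TR11
/-- The inverse code of a strong generator. -/
noncomputable def ciR11 : ℕ → ℕ := pgetS 12 4095 TI11
set_option maxRecDepth 100000 in
theorem code_R11 : E.IsCode ((R11 : G) : Equiv.Perm (Fin N)) (cR11) :=
  congr_of_chk (coe_code_mul (codei_D 0) (coe_code_mul (codei_D 4) (coe_code_mul (code_D 6) (coe_code_mul (code_D 4) ((code_D 0)))))) (by decide +kernel)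
set_option maxRecDepth 100000 in
theorem codei_R11 : E.IsCode ((R11⁻¹ : G) : Equiv.Perm (Fin N)) (ciR11) :=
  inv_of_chk code_R11 (by decide +kernel)
/-- A strong generator. -/
noncomputable def R12 : G := (D 2)⁻¹ * ((D 3)⁻¹ * ((D 6) * ((D 0) * ((D 3) * ((D 2))))))
/-- The code of a strong generator. -/
noncomputable def cR12 : ℕ → ℕ := pgetS 12 4095 TR12
/-- The inverse code of a strong generator. -/
noncomputable def ciR12 : ℕ → ℕ := pgetS 12 4095 TI12
set_option maxRecDepth 100000 in
theorem code_R12 : E.IsCode ((R12 : G) : Equiv.Perm (Fin N)) (cR12) :=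
  congr_of_chk (coe_code_mul (codei_D 2) (coe_code_mul (codei_D 3) (coe_code_mul (code_D 6) (coe_code_mul (code_D 0) (coe_code_mul (code_D 3) ((code_D 2))))))) (by decide +kernel)
set_option maxRecDepth 100000 in
theorem codei_R12 : E.IsCode ((R12⁻¹ : G) : Equiv.Perm (Fin N)) (ciR12) :=
  inv_of_chk code_R12 (by decide +kernel)
/-- A strong generator. -/
noncomputable def R13 : G := (D 0)⁻¹ * ((D 2)⁻¹ * ((D 0)⁻¹ * ((D 3) * ((D 0) * ((D 1))))))
/-- The code of a strong generator. -/
noncomputable def cR13 : ℕ → ℕ := pgetS 12 4095 TR13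
/-- The inverse code of a strong generator. -/
noncomputable def ciR13 : ℕ → ℕ := pgetS 12 4095 TI13
set_option maxRecDepth 100000 in
theorem code_R13 : E.IsCode ((R13 : G) : Equiv.Perm (Fin N)) (cR13) :=
  congr_of_chk (coe_code_mul (codei_D 0) (coe_code_mul (codei_D 2) (coe_code_mul (codei_D 0) (coe_code_mul (code_D 3) (coe_code_mul (code_D 0) ((code_D 1))))))) (by decide +kernel)
set_option maxRecDepth 100000 in
theorem codei_R13 : E.IsCode ((R13⁻¹ : G) : Equiv.Perm (Fin N)) (ciR13) :=
  inv_of_chk code_R13 (by decide +kernel)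
/-- A strong generator. -/
noncomputable def R14 : G := (D 5)⁻¹ * ((D 6)⁻¹ * ((D 0) * ((R8) * ((D 4)))))
/-- The code of a strong generator. -/
noncomputable def cR14 : ℕ → ℕ := pgetS 12 4095 TR14
/-- The inverse code of a strong generator. -/
noncomputable def ciR14 : ℕ → ℕ := pgetS 12 4095 TI14
set_option maxRecDepth 100000 in
theorem code_R14 : E.IsCode ((R14 : G) : Equiv.Perm (Fin N)) (cR14) :=
  congr_of_chk (coe_code_mul (codei_D 5) (coe_code_mul (codei_D 6) (coe_code_mul (code_D 0) (coe_code_mul code_R8 ((code_D 4)))))) (by decide +kernel)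
set_option maxRecDepth 100000 in
theorem codei_R14 : E.IsCode ((R14⁻¹ : G) : Equiv.Perm (Fin N)) (ciR14) :=
  inv_of_chk code_R14 (by decide +kernel)
/-- A strong generator. -/
noncomputable def R15 : G := (R11)⁻¹ * ((R13) * ((R12)))
/-- The code of a strong generator. -/
noncomputable def cR15 : ℕ → ℕ := pgetS 12 4095 TR15
/-- The inverse code of a strong generator. -/
noncomputable def ciR15 : ℕ → ℕ := pgetS 12 4095 TI15
set_option maxRecDepth 100000 in
theorem code_R15 : E.IsCode ((R15 : G) : Equiv.Perm (Fin N)) (cR15) :=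
  congr_of_chk (coe_code_mul codei_R11 (coe_code_mul code_R13 (code_R12))) (by decide +kernel)
set_option maxRecDepth 100000 in
theorem codei_R15 : E.IsCode ((R15⁻¹ : G) : Equiv.Perm (Fin N)) (ciR15) :=
  inv_of_chk code_R15 (by decide +kernel)
/-- A strong generator. -/
noncomputable def R16 : G := (R14)⁻¹ * ((R12) * ((R11) * ((R14))))
/-- The code of a strong generator. -/
noncomputable def cR16 : ℕ → ℕ := pgetS 12 4095 TR16
/-- The inverse code of a strong generator. -/
noncomputable def ciR16 : ℕ → ℕ := pgetS 12 4095 TI16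
set_option maxRecDepth 100000 in
theorem code_R16 : E.IsCode ((R16 : G) : Equiv.Perm (Fin N)) (cR16) :=
  congr_of_chk (coe_code_mul codei_R14 (coe_code_mul code_R12 (coe_code_mul code_R11 (code_R14)))) (by decide +kernel)
set_option maxRecDepth 100000 in
theorem codei_R16 : E.IsCode ((R16⁻¹ : G) : Equiv.Perm (Fin N)) (ciR16) :=
  inv_of_chk code_R16 (by decide +kernel)
/-- A strong generator. -/
noncomputable def R17 : G := (R13)⁻¹ * ((R14)⁻¹ * ((R13) * ((R14))))
/-- The code of a strong generator. -/
noncomputable def cR17 : ℕ → ℕ := pgetS 12 4095 TR17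
/-- The inverse code of a strong generator. -/
noncomputable def ciR17 : ℕ → ℕ := pgetS 12 4095 TI17
set_option maxRecDepth 100000 in
theorem code_R17 : E.IsCode ((R17 : G) : Equiv.Perm (Fin N)) (cR17) :=
  congr_of_chk (coe_code_mul codei_R13 (coe_code_mul codei_R14 (coe_code_mul code_R13 (code_R14)))) (by decide +kernel)
set_option maxRecDepth 100000 in
theorem codei_R17 : E.IsCode ((R17⁻¹ : G) : Equiv.Perm (Fin N)) (ciR17) :=
  inv_of_chk code_R17 (by decide +kernel)
/-- A strong generator. -/
noncomputable def R18 : G := (R12)⁻¹ * ((R14)⁻¹ * ((R12)⁻¹ * ((R13) * ((R14) * ((R12))))))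
/-- The code of a strong generator. -/
noncomputable def cR18 : ℕ → ℕ := pgetS 12 4095 TR18
/-- The inverse code of a strong generator. -/
noncomputable def ciR18 : ℕ → ℕ := pgetS 12 4095 TI18
set_option maxRecDepth 100000 in
theorem code_R18 : E.IsCode ((R18 : G) : Equiv.Perm (Fin N)) (cR18) :=
  congr_of_chk (coe_code_mul codei_R12 (coe_code_mul codei_R14 (coe_code_mul codei_R12 (coe_code_mul code_R13 (coe_code_mul code_R14 (code_R12)))))) (by decide +kernel)
set_option maxRecDepth 100000 in
theorem codei_R18 : E.IsCode ((R18⁻¹ : G) : Equiv.Perm (Fin N)) (ciR18) :=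
  inv_of_chk code_R18 (by decide +kernel)
/-- A strong generator. -/
noncomputable def R19 : G := (R12)⁻¹ * ((R14)⁻¹ * ((R11)⁻¹ * ((R14) * ((R11) * ((R14) * ((R12)))))))
/-- The code of a strong generator. -/
noncomputable def cR19 : ℕ → ℕ := pgetS 12 4095 TR19
/-- The inverse code of a strong generator. -/
noncomputable def ciR19 : ℕ → ℕ := pgetS 12 4095 TI19
set_option maxRecDepth 100000 in
theorem code_R19 : E.IsCode ((R19 : G) : Equiv.Perm (Fin N)) (cR19) :=
  congr_of_chk (coe_code_mul codei_R12 (coe_code_mul codei_R14 (coe_code_mul codei_R11 (coe_code_mul code_R14 (coe_code_mul code_R11 (coe_code_mul code_R14 (code_R12))))))) (by decide +kernel)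
set_option maxRecDepth 100000 in
theorem codei_R19 : E.IsCode ((R19⁻¹ : G) : Equiv.Perm (Fin N)) (ciR19) :=
  inv_of_chk code_R19 (by decide +kernel)
/-- A strong generator. -/
noncomputable def R20 : G := (R17) * ((R16) * ((R15)))
/-- The code of a strong generator. -/
noncomputable def cR20 : ℕ → ℕ := pgetS 12 4095 TR20
/-- The inverse code of a strong generator. -/
noncomputable def ciR20 : ℕ → ℕ := pgetS 12 4095 TI20
set_option maxRecDepth 100000 in
theorem code_R20 : E.IsCode ((R20 : G) : Equiv.Perm (Fin N)) (cR20) :=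
  congr_of_chk (coe_code_mul code_R17 (coe_code_mul code_R16 (code_R15))) (by decide +kernel)
set_option maxRecDepth 100000 in
theorem codei_R20 : E.IsCode ((R20⁻¹ : G) : Equiv.Perm (Fin N)) (ciR20) :=
  inv_of_chk code_R20 (by decide +kernel)
/-- A strong generator. -/
noncomputable def R21 : G := (R16)⁻¹ * ((R17) * ((R19) * ((R15))))
/-- The code of a strong generator. -/
noncomputable def cR21 : ℕ → ℕ := pgetS 12 4095 TR21
/-- The inverse code of a strong generator. -/
noncomputable def ciR21 : ℕ → ℕ := pgetS 12 4095 TI21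
set_option maxRecDepth 100000 in
theorem code_R21 : E.IsCode ((R21 : G) : Equiv.Perm (Fin N)) (cR21) :=
  congr_of_chk (coe_code_mul codei_R16 (coe_code_mul code_R17 (coe_code_mul code_R19 (code_R15)))) (by decide +kernel)
set_option maxRecDepth 100000 in
theorem codei_R21 : E.IsCode ((R21⁻¹ : G) : Equiv.Perm (Fin N)) (ciR21) :=
  inv_of_chk code_R21 (by decide +kernel)
/-- A strong generator. -/
noncomputable def R22 : G := (R17)⁻¹ * ((R19) * ((R17) * ((R15))))
/-- The code of a strong generator. -/
noncomputable def cR22 : ℕ → ℕ := pgetS 12 4095 TR22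
/-- The inverse code of a strong generator. -/
noncomputable def ciR22 : ℕ → ℕ := pgetS 12 4095 TI22
set_option maxRecDepth 100000 in
theorem code_R22 : E.IsCode ((R22 : G) : Equiv.Perm (Fin N)) (cR22) :=
  congr_of_chk (coe_code_mul codei_R17 (coe_code_mul code_R19 (coe_code_mul code_R17 (code_R15)))) (by decide +kernel)
set_option maxRecDepth 100000 in
theorem codei_R22 : E.IsCode ((R22⁻¹ : G) : Equiv.Perm (Fin N)) (ciR22) :=
  inv_of_chk code_R22 (by decide +kernel)
/-- A strong generator. -/
noncomputable def R23 : G := (R22)⁻¹ * ((R20) * ((R21)))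
/-- The code of a strong generator. -/
noncomputable def cR23 : ℕ → ℕ := pgetS 12 4095 TR23
/-- The inverse code of a strong generator. -/
noncomputable def ciR23 : ℕ → ℕ := pgetS 12 4095 TI23
set_option maxRecDepth 100000 in
theorem code_R23 : E.IsCode ((R23 : G) : Equiv.Perm (Fin N)) (cR23) :=
  congr_of_chk (coe_code_mul codei_R22 (coe_code_mul code_R20 (code_R21))) (by decide +kernel)
set_option maxRecDepth 100000 in
theorem codei_R23 : E.IsCode ((R23⁻¹ : G) : Equiv.Perm (Fin N)) (ciR23) :=
  inv_of_chk code_R23 (by decide +kernel)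
/-- A strong generator. -/
noncomputable def R24 : G := (R22) * ((R21) * ((R21) * ((R21))))
/-- The code of a strong generator. -/
noncomputable def cR24 : ℕ → ℕ := pgetS 12 4095 TR24
/-- The inverse code of a strong generator. -/
noncomputable def ciR24 : ℕ → ℕ := pgetS 12 4095 TI24
set_option maxRecDepth 100000 in
theorem code_R24 : E.IsCode ((R24 : G) : Equiv.Perm (Fin N)) (cR24) :=
  congr_of_chk (coe_code_mul code_R22 (coe_code_mul code_R21 (coe_code_mul code_R21 (code_R21)))) (by decide +kernel)
set_option maxRecDepth 100000 in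
theorem codei_R24 : E.IsCode ((R24⁻¹ : G) : Equiv.Perm (Fin N)) (ciR24) :=
  inv_of_chk code_R24 (by decide +kernel)
/-- A strong generator. -/
noncomputable def R25 : G := (R22)⁻¹ * ((R21)⁻¹ * ((R20) * ((R22) * ((R20)))))
/-- The code of a strong generator. -/
noncomputable def cR25 : ℕ → ℕ := pgetS 12 4095 TR25
/-- The inverse code of a strong generator. -/
noncomputable def ciR25 : ℕ → ℕ := pgetS 12 4095 TI25
set_option maxRecDepth 100000 in
theorem code_R25 : E.IsCode ((R25 : G) : Equiv.Perm (Fin N)) (cR25) :=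
  congr_of_chk (coe_code_mul codei_R22 (coe_code_mul codei_R21 (coe_code_mul code_R20 (coe_code_mul code_R22 (code_R20))))) (by decide +kernel)
set_option maxRecDepth 100000 in
theorem codei_R25 : E.IsCode ((R25⁻¹ : G) : Equiv.Perm (Fin N)) (ciR25) :=
  inv_of_chk code_R25 (by decide +kernel)
/-- A strong generator. -/
noncomputable def R26 : G := (R23)⁻¹ * ((R24))
/-- The code of a strong generator. -/
noncomputable def cR26 : ℕ → ℕ := pgetS 12 4095 TR26
/-- The inverse code of a strong generator. -/
noncomputable def ciR26 : ℕ → ℕ := pgetS 12 4095 TI26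
set_option maxRecDepth 100000 in
theorem code_R26 : E.IsCode ((R26 : G) : Equiv.Perm (Fin N)) (cR26) :=
  congr_of_chk (coe_code_mul codei_R23 (code_R24)) (by decide +kernel)
set_option maxRecDepth 100000 in
theorem codei_R26 : E.IsCode ((R26⁻¹ : G) : Equiv.Perm (Fin N)) (ciR26) :=
  inv_of_chk code_R26 (by decide +kernel)

end Cfsg.Agent.Lib.KnownSimple.HeP
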